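import Groth.Agent.EtConsShriek.PushFT
import Groth.Agent.EtTrivGen.OpenLocal
import Groth.Agent.EtCons.FinStratum
import Groth.Agent.EtModShriek.BaseChange
import Groth.Agent.DvrDom.ClosedProper
import Groth.Agent.AlgSpLib.Reduced
import Groth.Agent.FpqcDescent.Sep

/-!
Extension by zero along a quasi-compact quasi-separated etale morphism preserves constructibility of sheaves of
modules.
-/

set_option autoImplicit false
set_option backward.isDefEq.respectTransparency false
set_option backward.isDefEq.respectTransparency.types false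
set_option linter.style.haveILetI false
set_option linter.unusedSectionVars false

universe u

open CategoryTheory CategoryTheory.Limits AlgebraicGeometry Opposite Topology
open Groth.Agent.EtTrivGen

noncomputable section

namespace Groth.Agent.EtConsShriek

variable {Λ : Type (u + 1)} [CommRing Λ]

/-- a reduced scheme whose image lies in an immersed subscheme factors through it -/
theorem exists_factor {Y S T : Scheme.{u}} [IsReduced Y] (a : Y ⟶ S) (g : T ⟶ S) [IsImmersion g]
    (h : Set.range a ⊆ Set.range g) : ∃ b : Y ⟶ T, b ≫ g = a := by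
  haveI h1 : IsImmersion (pullback.fst a g) := MorphismProperty.pullback_fst _ _ inferInstance
  have hr : Set.range (pullback.fst a g) = Set.univ := Set.eq_univ_of_forall fun y => by
    obtain ⟨t, ht⟩ := h ⟨y, rfl⟩
    obtain ⟨z, hz, -⟩ := Scheme.Pullback.exists_preimage_pullback y t ht.symm
    exact ⟨z, hz⟩
  haveI : IsClosedImmersion (pullback.fst a g) :=
    .of_isPreimmersion _ (by rw [hr]; exact isClosed_univ)
  haveI : Surjective (pullback.fst a g) := ⟨Set.range_eq_univ.1 hr⟩
  haveI := isIso_of_isClosedImmersion_of_surjective (pullback.fst a g)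
  refine ⟨inv (pullback.fst a g) ≫ pullback.snd a g, ?_⟩
  rw [Category.assoc, ← pullback.condition, IsIso.inv_hom_id_assoc]

/-- an immersion of a reduced scheme with prescribed range -/
theorem exists_reduced_immersion {Y : Scheme.{u}} {A : Set Y} (hA : IsLocallyClosed A) :
    ∃ (O : Scheme.{u}) (g : O ⟶ Y), IsImmersion g ∧ IsReduced O ∧ Set.range g = A := by
  obtain ⟨O₁, g₁, h₁, hr₁⟩ := EtCons.exists_immersion_range hA
  let C : TopologicalSpace.Closeds O₁ := ⊤
  let I := Scheme.IdealSheafData.vanishingIdeal C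
  refine ⟨I.subscheme, I.subschemeι ≫ g₁, inferInstance, DvrDom.isReduced_vanishingIdeal_subscheme C, ?_⟩
  rw [Scheme.Hom.comp_base, TopCat.coe_comp, Set.range_comp, Scheme.IdealSheafData.range_subschemeι,
    Scheme.IdealSheafData.coe_support_vanishingIdeal]
  show g₁ '' Set.univ = A
  rw [Set.image_univ, hr₁]

/-- a quasi-compact open is closed over a stratum where it is finite -/
theorem exists_closed_stratum {X P : Scheme.{u}} (φ : P ⟶ X) [IsSeparated φ] [LocallyQuasiFinite φ]
    [LocallyOfFiniteType φ] [QuasiSeparatedSpace P] {D : X.Opens} (hD : IsAffineOpen D) {x : X} (hx : x ∈ D)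
    (hφD : ∀ p, φ p ∈ D) (W : P.Opens) (hW : IsCompact (W : Set P)) :
    ∃ R : Set X, IsLocallyClosed R ∧ x ∈ R ∧ R ⊆ D ∧
      IsConstructible ((Subtype.val : ↥(D : Set X) → X) ⁻¹' R) ∧
      ∀ B : Set P, B ⊆ φ ⁻¹' R → IsClosed ((Subtype.val : B → P) ⁻¹' (W : Set P)) := by
  haveI : QuasiSeparatedSpace W.toScheme := W.ι.isOpenEmbedding.quasiSeparatedSpace
  have hpre : (W.ι ≫ φ) ⁻¹ᵁ D = ⊤ := by
    ext z
    exact ⟨fun _ => trivial, fun _ => hφD (W.ι z)⟩
  have hc : IsCompact (((W.ι ≫ φ) ⁻¹ᵁ D : W.toScheme.Opens) : Set W.toScheme) := by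
    rw [hpre]
    haveI : CompactSpace W.toScheme := isCompact_iff_compactSpace.1 hW
    exact isCompact_univ
  obtain ⟨T, c, himm, _, hfin, hxT, hTD, hcons⟩ := EtCons.exists_finite_stratum (W.ι ≫ φ) hD hc hx
  haveI := himm
  haveI := hfin
  refine ⟨Set.range c, c.isLocallyClosed_range, hxT, hTD, hcons, fun B hB => ?_⟩
  let π := pullback.fst φ c
  haveI : IsImmersion π := MorphismProperty.pullback_fst _ _ himm
  let θ : pullback (W.ι ≫ φ) c ⟶ pullback φ c :=
    pullback.map (W.ι ≫ φ) c φ c W.ι (𝟙 T) (𝟙 X) (Category.comp_id _) ((Category.comp_id c).trans (Category.id_comp c).symm)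
  have hθf : θ ≫ pullback.snd φ c = pullback.snd (W.ι ≫ φ) c := by
    simp [θ]
  have hθπ : θ ≫ π = pullback.fst (W.ι ≫ φ) c ≫ W.ι := by
    simp [θ, π]
  haveI : IsSeparated (pullback.snd φ c) := MorphismProperty.pullback_snd _ _ inferInstance
  haveI : IsFinite (θ ≫ pullback.snd φ c) := by rw [hθf]; infer_instance
  haveI : IsFinite θ := IsFinite.of_comp θ (pullback.snd φ c)
  have hcl : IsClosed (π ⁻¹' (W : Set P)) := by
    have e : π ⁻¹' (W : Set P) = Set.range θ := by
      ext z
      constructor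
      · intro hz
        have h2 : (W.ι ≫ φ) (⟨π z, hz⟩ : W.toScheme) = c (pullback.snd φ c z) :=
          congrArg (fun m : pullback φ c ⟶ X => m z) pullback.condition
        obtain ⟨w, hw1, hw2⟩ := Scheme.Pullback.exists_preimage_pullback (f := W.ι ≫ φ) (g := c) _ _ h2
        refine ⟨w, π.isEmbedding.injective ?_⟩
        exact ((congrArg (fun m : pullback (W.ι ≫ φ) c ⟶ P => m w) hθπ)).trans (congrArg W.ι hw1)
      · rintro ⟨w, rfl⟩
        show π (θ w) ∈ W
        have := congrArg (fun m : pullback (W.ι ≫ φ) c ⟶ P => m w) hθπ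
        rw [show π (θ w) = W.ι (pullback.fst (W.ι ≫ φ) c w) from this]
        exact (pullback.fst (W.ι ≫ φ) c w).2
    rw [e]
    exact θ.isClosedMap.isClosed_range
  obtain ⟨Z, hZ, hZe⟩ := π.isEmbedding.isInducing.isClosed_iff.1 hcl
  rw [isClosed_induced_iff]
  refine ⟨Z, hZ, Set.ext fun b => ?_⟩
  obtain ⟨t, ht⟩ := hB b.2
  obtain ⟨z, hz, -⟩ := Scheme.Pullback.exists_preimage_pullback (f := φ) (g := c) b.1 t ht.symm
  show b.1 ∈ Z ↔ b.1 ∈ (W : Set P)
  rw [← hz]
  exact Set.ext_iff.1 hZe z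

/-- **`j_!` preserves constructibility** -/
theorem isConstructible_extZeroMod {U X : Scheme.{u}} (j : U ⟶ X) [Etale j] [QuasiCompact j] [QuasiSeparated j]
    [EtShriek.JCont j] {F : EtModW.Mod Λ U} (hF : EtModW.IsConstructible Λ F) :
    EtModW.IsConstructible Λ ((EtSix.extZeroMod Λ j).obj F) := by
  rw [isConstructible_iff_goodAt]
  intro x
  obtain ⟨D, hD, hxD, -⟩ := EtCons.exists_affine_le (V := (⊤ : X.Opens)) (x := x) trivial
  haveI := EtCons.qs_of_affine hD
  haveI : LocallyQuasiFinite j := FpqcDescent.locallyQuasiFinite_of_etale j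
  -- restrict to the affine open
  haveI hjD : QuasiSeparatedSpace (j ⁻¹ᵁ D).toScheme := by
    haveI : IsAffine D.toScheme := hD
    haveI : QuasiSeparated (j ∣_ D) :=
      MorphismProperty.of_isPullback (P := @QuasiSeparated) (isPullback_morphismRestrict j D).flip ‹_›
    exact quasiSeparatedSpace_of_quasiSeparated (j ∣_ D)
  let jD : (j ⁻¹ᵁ D).toScheme ⟶ X := (j ⁻¹ᵁ D).ι ≫ j
  have hc : IsCompact ((jD ⁻¹ᵁ D : (j ⁻¹ᵁ D).toScheme.Opens) : Set (j ⁻¹ᵁ D).toScheme) := by
    have e : jD ⁻¹ᵁ D = ⊤ := by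
      ext z
      exact ⟨fun _ => trivial, fun _ => z.2⟩
    rw [e]
    haveI : CompactSpace (j ⁻¹ᵁ D).toScheme :=
      isCompact_iff_compactSpace.1 (j.isCompact_preimage hD.isCompact)
    exact isCompact_univ
  obtain ⟨T, c, hcimm, hTa, hfin, hxc, hcD, hC⟩ := EtCons.exists_finite_stratum jD hD hc hxD
  haveI := hcimm; haveI := hTa; haveI := hfin
  let P := pullback jD c
  haveI : IsAffine P := isAffine_of_isAffineHom (pullback.snd jD c)
  let a : P ⟶ U := pullback.fst jD c ≫ (j ⁻¹ᵁ D).ι
  let φ : P ⟶ X := a ≫ j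
  have hφc : φ = pullback.snd jD c ≫ c := (Category.assoc _ _ _).trans pullback.condition
  haveI : IsSeparated φ := by rw [hφc]; infer_instance
  haveI : LocallyQuasiFinite φ := by rw [hφc]; infer_instance
  haveI : LocallyOfFiniteType φ := by rw [hφc]; infer_instance
  have hφD : ∀ p, φ p ∈ D := fun p => (pullback.fst jD c p).2
  -- a stratification of the pullback
  obtain ⟨m, S, g, hgi, hgc, -, hgU, hgF⟩ := isConstructible_pull a hF (⊤ : P.Opens) (isAffineOpen_top P)
  choose O hOfin hOp hdet using fun k => EtCons.exists_determining (hgc k)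
  haveI : CompactSpace ↥((⊤ : P.Opens) : Set P) := EtCons.compact_of_affine (isAffineOpen_top P)
  let W : (Σ k : Fin m, O k) → P.Opens := fun s =>
    ⟨Subtype.val '' (s.2.1), (⊤ : P.Opens).isOpen.isOpenEmbedding_subtypeVal.isOpenMap _ (hOp s.1 _ s.2.2).1⟩
  have hWc : ∀ s, IsCompact (W s : Set P) := fun s =>
    (hOp s.1 _ s.2.2).2.isCompact.image continuous_subtype_val
  choose R hRlc hxR hRD hRc hRcl using fun s => exists_closed_stratum φ hD hxD hφD (W s) (hWc s)
  haveI : ∀ k, Finite (O k) := fun k => (hOfin k).to_subtype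
  let A : Set X := Set.range c ∩ ⋂ s, R s
  have hAlc : IsLocallyClosed A := by
    have key : ∀ t : Finset (Σ k : Fin m, O k), IsLocallyClosed (Set.range c ∩ ⋂ s ∈ t, R s) := by
      intro t
      classical
      induction t using Finset.induction_on with
      | empty => simpa using c.isLocallyClosed_range
      | @insert s t _ ih =>
        rw [Finset.set_biInter_insert, show Set.range c ∩ (R s ∩ ⋂ s ∈ t, R s) =
          R s ∩ (Set.range c ∩ ⋂ s ∈ t, R s) from Set.inter_left_comm _ _ _]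
        exact (hRlc s).inter ih
    haveI : Fintype (Σ k : Fin m, O k) := Fintype.ofFinite _
    have h := key Finset.univ
    simpa [A] using h
  have hAc : IsConstructible ((Subtype.val : ↥(D : Set X) → X) ⁻¹' A) := by
    show IsConstructible ((Subtype.val : ↥(D : Set X) → X) ⁻¹' (Set.range c ∩ ⋂ s, R s))
    rw [Set.preimage_inter, Set.preimage_iInter]
    exact hC.inter (IsConstructible.iInter fun s => hRc s)
  obtain ⟨T', g', hg'imm, hT'red, hg'r⟩ := exists_reduced_immersion hAlc
  haveI := hg'imm; haveI := hT'red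
  obtain ⟨b, hb⟩ := exists_factor g' c (by rw [hg'r]; exact Set.inter_subset_left)
  refine ⟨D, hD, hxD, T', g', Subtype.val ⁻¹' A, inferInstance, hAc, ⟨hxD, hxc, Set.mem_iInter.2 hxR⟩,
    (Set.image_preimage_subset _ _).trans hg'r.ge, ?_⟩
  -- the finite etale piece
  let Q := pullback j g'
  have hg'D : ∀ q : Q, pullback.fst j g' q ∈ j ⁻¹ᵁ D := fun q => by
    show j (pullback.fst j g' q) ∈ D
    rw [show j (pullback.fst j g' q) = g' (pullback.snd j g' q) from
      congrArg (fun t : Q ⟶ X => t q) pullback.condition]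
    have : g' (pullback.snd j g' q) ∈ A := hg'r ▸ ⟨_, rfl⟩
    exact hcD this.1
  let l : Q ⟶ (j ⁻¹ᵁ D).toScheme := IsOpenImmersion.lift (j ⁻¹ᵁ D).ι (pullback.fst j g') (by
    rw [Scheme.Opens.range_ι]; rintro _ ⟨q, rfl⟩; exact hg'D q)
  have hl : l ≫ (j ⁻¹ᵁ D).ι = pullback.fst j g' := IsOpenImmersion.lift_fac _ _ _
  let π : Q ⟶ P := pullback.lift l (pullback.snd j g' ≫ b) (by
    show l ≫ (j ⁻¹ᵁ D).ι ≫ j = (pullback.snd j g' ≫ b) ≫ c
    rw [← Category.assoc, hl, Category.assoc, hb, pullback.condition])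
  have hπa : π ≫ a = pullback.fst j g' := by
    show π ≫ pullback.fst jD c ≫ (j ⁻¹ᵁ D).ι = _
    rw [pullback.lift_fst_assoc, hl]
  have hsq : IsPullback π (pullback.snd j g') (pullback.snd jD c) b := by
    refine .mk' (pullback.lift_snd _ _ _) (fun _ e e' h₁ h₂ => ?_) fun _ p t h => ?_
    · refine pullback.hom_ext ?_ h₂
      rw [← hπa, ← Category.assoc, h₁, Category.assoc]
    · refine ⟨pullback.lift (p ≫ a) t ?_, ?_, pullback.lift_snd _ _ _⟩
      · show (p ≫ a) ≫ j = t ≫ g'
        exact (Category.assoc p a j).trans ((congrArg (p ≫ ·) hφc).trans ((Category.assoc p _ c).symm.trans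
          ((congrArg (· ≫ c) h).trans ((Category.assoc t b c).trans (congrArg (t ≫ ·) hb)))))
      · refine pullback.hom_ext ?_ ?_
        · rw [← cancel_mono (j ⁻¹ᵁ D).ι]
          exact (Category.assoc _ _ _).trans ((Category.assoc _ π a).trans ((congrArg (_ ≫ ·) hπa).trans
            ((pullback.lift_fst _ _ _).trans (Category.assoc _ _ _).symm)))
        · rw [Category.assoc, pullback.lift_snd, pullback.lift_snd_assoc, h]
  haveI : IsFinite (pullback.snd j g') := MorphismProperty.of_isPullback hsq hfin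
  haveI : Etale (pullback.snd j g') := MorphismProperty.pullback_snd _ _ inferInstance
  haveI : IsReduced Q := AlgSpLib.isReduced_of_smooth (pullback.snd j g')
  have hπR : ∀ (s) (q : Q), φ (π q) ∈ R s := fun s q => by
    have e : φ (π q) = g' (pullback.snd j g' q) := by
      show j (a (π q)) = _
      rw [show a (π q) = pullback.fst j g' q from congrArg (fun t : Q ⟶ U => t q) hπa]
      exact congrArg (fun t : Q ⟶ X => t q) pullback.condition
    have h2 : g' (pullback.snd j g' q) ∈ A := hg'r ▸ ⟨_, rfl⟩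
    rw [e]
    exact Set.mem_iInter.1 h2.2 s
  -- every piece of the stratification is open on `Q`
  have hclop : ∀ s, IsClosed (π ⁻¹' (W s : Set P)) := fun s => by
    have h := hRcl s (Set.range π) (by rintro _ ⟨q, rfl⟩; exact hπR s q)
    exact h.preimage (π.continuous.subtype_mk fun q => (⟨q, rfl⟩ : π q ∈ Set.range π))
  have hG : EtModW.IsFTLocConst Λ ((EtModW.pull Λ π).obj ((EtModW.pull Λ a).obj F)) := by
    refine isFTLocConst_of_open_cover fun q => ?_
    obtain ⟨k, hk⟩ := Set.mem_iUnion.1 (hgU.symm ▸ (Set.mem_univ (π q)) : π q ∈ ⋃ k, Set.range (g k))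
    let s : O k → Prop := fun o => π q ∈ (W ⟨k, o⟩ : Set P)
    let B : Set Q := ⋂ o : O k, {y | π y ∈ (W ⟨k, o⟩ : Set P) ↔ s o}
    have hB : IsOpen B := isOpen_iInter_of_finite fun o => by
      by_cases ho : s o
      · rw [show {y | π y ∈ (W ⟨k, o⟩ : Set P) ↔ s o} = π ⁻¹' (W ⟨k, o⟩ : Set P) from
          Set.ext fun y => ⟨fun h => h.2 ho, fun h => iff_of_true h ho⟩]
        exact (W ⟨k, o⟩).isOpen.preimage π.continuous
      · rw [show {y | π y ∈ (W ⟨k, o⟩ : Set P) ↔ s o} = (π ⁻¹' (W ⟨k, o⟩ : Set P))ᶜ from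
          Set.ext fun y => ⟨fun h hy => ho (h.1 hy), fun h => iff_of_false h ho⟩]
        exact (hclop _).isOpen_compl
    refine ⟨⟨B, hB⟩, Set.mem_iInter.2 fun o => Iff.rfl, ?_⟩
    let O' : Q.Opens := ⟨B, hB⟩
    haveI : IsReduced O'.toScheme := isReduced_of_isOpenImmersion O'.ι
    haveI := hgi k
    obtain ⟨e, he⟩ := exists_factor (O'.ι ≫ π) (g k) (by
      rintro _ ⟨y, rfl⟩
      have hy := Set.mem_iInter.1 y.2
      have := hdet k ⟨π q, trivial⟩ ⟨π (O'.ι y), trivial⟩ (fun o ho => by
        have h1 : π (O'.ι y) ∈ (W ⟨k, ⟨o, ho⟩⟩ : Set P) ↔ π q ∈ (W ⟨k, ⟨o, ho⟩⟩ : Set P) := hy ⟨o, ho⟩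
        exact (Subtype.val_injective.mem_set_image (a := (⟨π q, trivial⟩ : ↥((⊤ : P.Opens) : Set P)))).symm.trans
          (h1.symm.trans (Subtype.val_injective.mem_set_image
            (a := (⟨π (O'.ι y), trivial⟩ : ↥((⊤ : P.Opens) : Set P)))))) hk
      exact this)
    exact IsFTLocConst.ofIso ((EtSix.pullModComp Λ O'.ι π).app _) (FT.congr he (FT.comp e (g k) (hgF k)))
  have hG' : EtModW.IsFTLocConst Λ ((EtModW.pull Λ (pullback.fst j g')).obj F) := by
    rw [← hπa]
    exact IsFTLocConst.ofIso ((EtSix.pullModComp Λ π a).app F).symm hG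
  haveI : EtShriek.JCont (pullback.snd j g') := EtMV.jcont_etale _
  exact IsFTLocConst.ofIso
    ((EtModShriek.shriekPullModIso Λ j g' (pullback.snd j g') (pullback.fst j g')
      (IsPullback.of_hasPullback j g').flip).app F) (isFTLocConst_extZeroMod _ hG')

end Groth.Agent.EtConsShriek
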