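import Mathlib

/-!
Bounded above complexes with cohomology in a class `𝒮` are quasi-isomorphic to bounded above complexes with terms in
a class `P` generating `𝒮`.
-/

set_option autoImplicit false
set_option linter.style.haveILetI false
set_option backward.isDefEq.respectTransparency false
set_option backward.isDefEq.respectTransparency.types false

universe w v u

namespace Groth.Agent.EtConsShriek

open CategoryTheory Limits DerivedCategory CochainComplex CochainComplex.HomComplex ZeroObject

attribute [local instance] HasDerivedCategory.standard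

variable {A : Type u} [Category.{v} A] [Abelian A]

/-- a class of generators `P` of a class `𝒮` closed under kernels, cokernels and extensions -/
structure Data (P 𝒮 : A → Prop) : Prop where
  zero : ∀ {X : A}, IsZero X → P X
  iso : ∀ {X Y : A}, (X ≅ Y) → P X → P Y
  biprod : ∀ {X Y : A}, P X → P Y → P (X ⊞ Y)
  le : ∀ {X : A}, P X → 𝒮 X
  isoS : ∀ {X Y : A}, (X ≅ Y) → 𝒮 X → 𝒮 Y
  ker : ∀ {X Y : A} (f : X ⟶ Y), 𝒮 X → 𝒮 Y → 𝒮 (kernel f) ∧ 𝒮 (cokernel f)
  ext : ∀ {S : ShortComplex A}, S.ShortExact → 𝒮 S.X₁ → 𝒮 S.X₃ → 𝒮 S.X₂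
  gen : ∀ {Z H : A} (π : Z ⟶ H) [Epi π], 𝒮 H → ∃ (F : A) (g : F ⟶ Z), P F ∧ Epi (g ≫ π)

variable {P 𝒮 : A → Prop}

/-- the middle of five terms -/
theorem Data.five (D : Data P 𝒮) {A₁ A₂ A₃ A₄ A₅ : A} (a : A₁ ⟶ A₂) (b : A₂ ⟶ A₃) (c : A₃ ⟶ A₄) (d : A₄ ⟶ A₅)
    (wab : a ≫ b = 0) (wbc : b ≫ c = 0) (wcd : c ≫ d = 0)
    (eab : (ShortComplex.mk a b wab).Exact) (ebc : (ShortComplex.mk b c wbc).Exact)
    (ecd : (ShortComplex.mk c d wcd).Exact) (h₁ : 𝒮 A₁) (h₂ : 𝒮 A₂) (h₄ : 𝒮 A₄) (h₅ : 𝒮 A₅) : 𝒮 A₃ := by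
  let i : cokernel a ⟶ A₃ := cokernel.desc a b wab
  let p : A₃ ⟶ kernel d := kernel.lift d c wcd
  haveI : Mono i := eab.mono_cokernelDesc
  haveI : Epi p := ecd.epi_kernelLift
  have w : i ≫ p = 0 := by
    rw [← cancel_mono (kernel.ι d), ← cancel_epi (cokernel.π a)]
    simp [i, p, wbc]
  refine D.ext (S := ShortComplex.mk i p w) (ShortComplex.ShortExact.mk' ?_ inferInstance inferInstance)
    (D.ker a h₁ h₂).2 (D.ker d h₄ h₅).1
  rw [ShortComplex.exact_iff_exact_up_to_refinements]
  intro T x hx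
  obtain ⟨T', π, hπ, y, hy⟩ := ebc.exact_up_to_refinements x (by
    have := congrArg (· ≫ kernel.ι d) hx
    simpa [p] using this)
  exact ⟨T', π, hπ, y ≫ cokernel.π a, hy.trans (by simp [i])⟩

/-- homology of a complex with terms in `𝒮` -/
theorem Data.homology (D : Data P 𝒮) (K : CochainComplex A ℤ) (h : ∀ i, 𝒮 (K.X i)) (i : ℤ) :
    𝒮 (K.homology i) := by
  have hc : 𝒮 (K.cycles i) := D.isoS ((limit.isLimit _).conePointUniqueUpToIso
    (K.cyclesIsKernel i (i + 1) (by simp))) (D.ker (K.d i (i + 1)) (h i) (h (i + 1))).1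
  exact D.isoS ((cokernelIsCokernel _).coconePointUniqueUpToIso
    (K.homologyIsCokernel (i - 1) i (by simp))) (D.ker (K.toCycles (i - 1) i) (h (i - 1)) hc).2

/-- homology of cones -/
theorem Data.homology_cone (D : Data P 𝒮) {E G : CochainComplex A ℤ} (q : E ⟶ G) (hE : ∀ i, P (E.X i))
    (hG : ∀ i, 𝒮 (G.homology i)) (i : ℤ) : 𝒮 ((mappingCone q).homology i) := by
  have hT := DerivedCategory.mappingCone_triangle_distinguished q
  have hES : ∀ j, 𝒮 ((DerivedCategory.homologyFunctor A j).obj (DerivedCategory.Q.obj E)) := fun j =>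
    D.isoS ((homologyFunctorFactors A j).app E).symm (D.homology E (fun l => D.le (hE l)) j)
  have hGS : ∀ j, 𝒮 ((DerivedCategory.homologyFunctor A j).obj (DerivedCategory.Q.obj G)) := fun j =>
    D.isoS ((homologyFunctorFactors A j).app G).symm (hG j)
  refine D.isoS ((homologyFunctorFactors A i).app (mappingCone q)) ?_
  exact D.five _ _ _ _ _ _ _ (HomologySequence.exact₂ _ hT i) (HomologySequence.exact₃ _ hT i (i + 1) rfl)
    (HomologySequence.exact₁ _ hT i (i + 1) rfl) (hES i) (hGS i) (hES (i + 1)) (hGS (i + 1))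

/-- maps isomorphic in three degrees are isomorphisms on homology -/
lemma isIso_homologyMap_of_isIso_f {K L : CochainComplex A ℤ} (φ : K ⟶ L) (i : ℤ)
    (h : ∀ j, i - 1 ≤ j → j ≤ i + 1 → IsIso (φ.f j)) : IsIso (HomologicalComplex.homologyMap φ i) := by
  let ψ := (HomologicalComplex.shortComplexFunctor A (ComplexShape.up ℤ) i).map φ
  haveI : IsIso ψ.τ₁ := h _ (by simp) (by simp; lia)
  haveI : IsIso ψ.τ₂ := h i (by lia) (by lia)
  haveI : IsIso ψ.τ₃ := h _ (by simp; lia) (by simp)
  haveI : IsIso ψ := ShortComplex.isIso_of_isIso ψ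
  exact inferInstanceAs (IsIso ((ShortComplex.homologyFunctor _).map ψ))

/-- acyclicity of the cone in two degrees -/
lemma isIso_homologyMap_of_cone {K L : CochainComplex A ℤ} (q : K ⟶ L) (i : ℤ)
    (h₀ : IsZero ((mappingCone q).homology (i - 1))) (h : IsZero ((mappingCone q).homology i)) :
    IsIso (HomologicalComplex.homologyMap q i) := by
  have hT := DerivedCategory.mappingCone_triangle_distinguished q
  have hz : ∀ j, IsZero ((mappingCone q).homology j) →
      IsZero ((DerivedCategory.homologyFunctor A j).obj (DerivedCategory.Q.obj (mappingCone q))) := fun j hj =>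
    hj.of_iso ((homologyFunctorFactors A j).app _)
  haveI : Epi ((DerivedCategory.homologyFunctor A i).map (DerivedCategory.Q.map q)) :=
    (HomologySequence.epi_homologyMap_mor₁_iff _ hT i).2 ((hz i h).eq_of_tgt _ _)
  haveI : Mono ((DerivedCategory.homologyFunctor A i).map (DerivedCategory.Q.map q)) :=
    (HomologySequence.mono_homologyMap_mor₁_iff _ hT (i - 1) i (by lia)).2 ((hz _ h₀).eq_of_src _ _)
  have hiso : IsIso ((DerivedCategory.homologyFunctor A i).map (DerivedCategory.Q.map q)) :=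
    isIso_of_mono_of_epi (C := A) _
  exact (NatIso.isIso_map_iff (homologyFunctorFactors A i) q).1 hiso

variable (P) in
/-- a partial resolution of `G` down to degree `n` -/
structure Approx (G : CochainComplex A ℤ) (b n : ℤ) where
  /-- the complex -/
  E : CochainComplex A ℤ
  /-- its map to `G` -/
  q : E ⟶ G
  vanish : ∀ i, i < n ∨ b < i → IsZero (E.X i)
  term : ∀ i, P (E.X i)
  miso : ∀ i, n ≤ i → IsZero ((mappingCone q).homology i)

variable {G : CochainComplex A ℤ} {b : ℤ}

theorem exists_next (D : Data P 𝒮) (hG : ∀ i, 𝒮 (G.homology i)) (n : ℤ) (hn : n ≤ b + 1)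
    (s : Approx P G b n) : ∃ (s' : Approx P G b (n - 1)) (φ : s.E ⟶ s'.E), φ ≫ s'.q = s.q ∧
      ∀ i, i ≠ n - 1 → IsIso (φ.f i) := by
  let C := mappingCone s.q
  have habove : ∀ i, n ≤ i → IsZero (C.homology i) := s.miso
  obtain ⟨F, ε₀, hFP, hp⟩ := D.gen (C.homologyπ (n - 1))
    (D.homology_cone s.q s.term hG (n - 1))
  let ε : F ⟶ C.X (n - 1) := ε₀ ≫ C.iCycles (n - 1)
  have hε : ε ≫ C.d (n - 1) n = 0 := by simp [ε]
  let P' : CochainComplex A ℤ := (HomologicalComplex.single _ (ComplexShape.up ℤ) n).obj F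
  have hP : ∀ i, i ≠ n → IsZero (P'.X i) := fun i hi => HomologicalComplex.isZero_single_obj_X _ n F i hi
  let e : P'.X n ≅ F := HomologicalComplex.singleObjXSelf (ComplexShape.up ℤ) n F
  let f : P' ⟶ s.E := HomologicalComplex.mkHomFromSingle
    (ε ≫ (mappingCone.fst s.q).1.v (n - 1) n (by lia)) (fun k hk => by
      obtain rfl : n + 1 = k := hk
      have h := hε =≫ (mappingCone.fst s.q).1.v n (n + 1) rfl
      rw [Category.assoc, zero_comp, mappingCone.d_fst_v _ (n - 1) n (n + 1) (by lia) rfl] at h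
      simpa using h)
  let α : Cochain P' G (-1) := Cochain.mk fun x y h =>
    if hx : x = n then
      -(eqToHom (by rw [hx]) ≫ e.hom ≫ ε ≫ (mappingCone.snd s.q).v (n - 1) (n - 1) (add_zero _) ≫
        eqToHom (congrArg G.X (by lia)))
    else 0
  have hαv : α.v n (n - 1) (by lia) =
      -(e.hom ≫ ε ≫ (mappingCone.snd s.q).v (n - 1) (n - 1) (add_zero _)) := by simp [α]
  have hα : δ (-1) 0 α = Cochain.ofHom (f ≫ s.q) := by
    ext x
    by_cases hx : x = n
    · subst hx
      have h := hε =≫ (mappingCone.snd s.q).v x x (add_zero x)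
      rw [Category.assoc, zero_comp, mappingCone.d_snd_v _ (x - 1) x (by lia), Preadditive.comp_add,
        add_eq_zero_iff_eq_neg] at h
      rw [δ_v (-1) 0 (neg_add_cancel 1) α x x (add_zero x) (x - 1) (x + 1) rfl rfl, hαv]
      have h0 : α.v (x + 1) x (by lia) = 0 := (hP (x + 1) (by lia)).eq_of_src _ _
      rw [h0, comp_zero, smul_zero, add_zero, Cochain.ofHom_v, HomologicalComplex.comp_f,
        HomologicalComplex.mkHomFromSingle_f]
      simp only [e, Category.assoc]
      rw [h]
      simp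
    · exact (hP x hx).eq_of_src _ _
  let E' := mappingCone f
  let q' : E' ⟶ G := mappingCone.desc f α s.q hα
  have hinr : ∀ i, i ≠ n - 1 → IsIso ((mappingCone.inr f).f i) := fun i hi => by
    haveI : Epi ((mappingCone.inr f).f i) := ⟨fun g g' hgg => by
      rw [mappingCone.ext_from_iff _ (i + 1) i rfl]
      exact ⟨(hP (i + 1) (by lia)).eq_of_src _ _, hgg⟩⟩
    haveI : Mono ((mappingCone.inr f).f i) := ⟨fun g g' hgg => by
      simpa using hgg =≫ (mappingCone.snd f).v i i (add_zero i)⟩
    exact isIso_of_mono_of_epi _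
  let φ : s.E ⟶ E' := mappingCone.inr f
  have hφ : φ ≫ q' = s.q := by ext i; simp [φ, q']
  have hterm : ∀ i, P (E'.X i) := fun i => by
    have h₁ : P (P'.X (i + 1)) := by
      by_cases hi : i + 1 = n
      · subst hi
        exact D.iso e.symm hFP
      · exact D.zero (hP (i + 1) hi)
    exact D.iso (HomologicalComplex.homotopyCofiber.XIsoBiprod f i (i + 1) rfl).symm (D.biprod h₁ (s.term i))
  have hvan : ∀ i, i < n - 1 ∨ b < i → IsZero (E'.X i) := fun i hi =>
    IsZero.of_iso (biprod_isZero_iff _ _ |>.2 ⟨hP (i + 1) (by lia), s.vanish i (by lia)⟩)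
      (HomologicalComplex.homotopyCofiber.XIsoBiprod f i (i + 1) rfl)
  let j : C ⟶ mappingCone q' := mappingCone.map s.q q' φ (𝟙 G) (by rw [Category.comp_id, hφ])
  have hj : ∀ i, n - 1 ≤ i → IsIso (j.f i) := fun i hi => by
    haveI : IsIso (φ.f (i + 1)) := hinr (i + 1) (by lia)
    refine ⟨(mappingCone.fst q').1.v i (i + 1) rfl ≫ inv (φ.f (i + 1)) ≫
        (mappingCone.inl s.q).v (i + 1) i (by lia) +
      (mappingCone.snd q').v i i (add_zero i) ≫ (mappingCone.inr s.q).f i, ?_, ?_⟩
    · rw [mappingCone.ext_from_iff _ (i + 1) i rfl]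
      constructor <;> simp [j, C, mappingCone.map, mappingCone.desc_f _ _ _ _ i (i + 1) rfl]
    · rw [mappingCone.ext_from_iff _ (i + 1) i rfl]
      constructor <;> simp [j, C, mappingCone.map, mappingCone.desc_f _ _ _ _ i (i + 1) rfl]
  have hepi : ∀ i, n - 1 ≤ i → Epi (HomologicalComplex.homologyMap j i) := fun i hi => by
    let ψ := (HomologicalComplex.shortComplexFunctor A (ComplexShape.up ℤ) i).map j
    haveI h₂ : IsIso ψ.τ₂ := hj i hi
    haveI : IsIso ψ.τ₃ := hj _ (by simp; lia)
    haveI := ShortComplex.isIso_cyclesMap_of_isIso_of_mono' ψ h₂ inferInstance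
    exact ShortComplex.epi_homologyMap_of_epi_cyclesMap ψ
  have hnull : HomologicalComplex.homologyMap j (n - 1) = 0 := by
    haveI := hp
    rw [← cancel_epi (ε₀ ≫ C.homologyπ (n - 1)), comp_zero, Category.assoc,
      HomologicalComplex.homologyπ_naturality, ← Category.assoc]
    let x : F ⟶ (mappingCone q').X (n - 2) :=
      -(e.inv ≫ (mappingCone.inl f).v n (n - 1) (by lia) ≫ (mappingCone.inl q').v (n - 1) (n - 2) (by lia))
    have hx : ε ≫ j.f (n - 1) = x ≫ (mappingCone q').d (n - 2) (n - 1) := by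
      simp only [x, Preadditive.neg_comp, Category.assoc]
      rw [mappingCone.inl_v_d q' (n - 1) (n - 2) n (by lia) (by lia), Preadditive.comp_sub,
        ← Category.assoc ((mappingCone.inl f).v n (n - 1) _) (E'.d (n - 1) n),
        mappingCone.inl_v_d f n (n - 1) (n + 1) (by lia) (by lia), (hP (n + 1) (by lia)).eq_of_tgt
          (P'.d n (n + 1)) 0]
      simp only [zero_comp, sub_zero, Category.assoc, Preadditive.comp_sub]
      rw [mappingCone.ext_to_iff q' (n - 1) n (by lia)]
      constructor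
      · simp [j, mappingCone.map, mappingCone.desc_f _ _ _ _ (n - 1) n (by lia), q', e, f, φ,
          HomologicalComplex.mkHomFromSingle_f]
      · simp [j, mappingCone.map, mappingCone.desc_f _ _ _ _ (n - 1) n (by lia), q', e, f, φ, hαv]
    have hlift : ε₀ ≫ HomologicalComplex.cyclesMap j (n - 1) = (mappingCone q').liftCycles
        (x ≫ (mappingCone q').d (n - 2) (n - 1)) n (by simp) (by simp) := by
      rw [← cancel_mono ((mappingCone q').iCycles (n - 1))]
      simp [← hx, ε]
    rw [hlift]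
    exact (mappingCone q').liftCycles_homologyπ_eq_zero_of_boundary _ n (by simp) x rfl
  refine ⟨⟨E', q', hvan, hterm, fun i hi => ?_⟩, φ, hφ, hinr⟩
  haveI := hepi i hi
  refine IsZero.of_epi_eq_zero (HomologicalComplex.homologyMap j i) ?_
  obtain rfl | hi := eq_or_lt_of_le hi
  · exact hnull
  · exact (habove i (by lia)).eq_of_src _ _

variable [HasColimitsOfShape ℕ A]

/-- **resolutions by generators** -/
theorem exists_resolution (D : Data P 𝒮) (G : CochainComplex A ℤ) (hG : ∀ i, 𝒮 (G.homology i)) (b : ℤ)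
    (hb : ∀ i, b < i → IsZero (G.homology i)) :
    ∃ (E : CochainComplex A ℤ) (q : E ⟶ G), (∀ i, b < i → IsZero (E.X i)) ∧ (∀ i, P (E.X i)) ∧ QuasiIso q := by
  have hz : ∀ i, IsZero ((0 : CochainComplex A ℤ).X i) := fun i =>
    (HomologicalComplex.eval A _ i).map_isZero (isZero_zero _)
  have s₀ : Nonempty (Approx P G b (b + 1 - ((0 : ℕ) : ℤ))) := by
    refine ⟨⟨0, 0, fun i _ => hz i, fun i => D.zero (hz i), fun i hi => ?_⟩⟩
    have h0 : ∀ j, IsZero ((DerivedCategory.homologyFunctor A j).obj (DerivedCategory.Q.obj (0 : CochainComplex A ℤ))) :=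
      fun j => IsZero.of_iso ((HomologicalComplex.homologyFunctor A _ j).map_isZero (isZero_zero _))
        ((homologyFunctorFactors A j).app _)
    exact IsZero.of_iso ((HomologySequence.exact₃ _
      (DerivedCategory.mappingCone_triangle_distinguished (0 : (0 : CochainComplex A ℤ) ⟶ G)) i (i + 1) rfl).isZero_of_both_zeros
        ((IsZero.of_iso (hb i (by lia)) ((homologyFunctorFactors A i).app G)).eq_of_src _ _)
        ((h0 (i + 1)).eq_of_tgt _ _))
      ((homologyFunctorFactors A i).app _).symm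
  have step : ∀ (k : ℕ) (s : Approx P G b (b + 1 - k)), ∃ (s' : Approx P G b (b + 1 - (k + 1 : ℕ)))
      (φ : s.E ⟶ s'.E), φ ≫ s'.q = s.q ∧ ∀ i, i ≠ b - k → IsIso (φ.f i) := fun k s => by
    have h := exists_next D hG (b + 1 - k) (by lia) s
    rw [show b + 1 - (k : ℤ) - 1 = b + 1 - ((k + 1 : ℕ) : ℤ) by lia] at h
    obtain ⟨s', φ, h₁, h₂⟩ := h
    exact ⟨s', φ, h₁, fun i hi => h₂ i (by lia)⟩
  choose nxt φ hφ hiso using step
  let S : ∀ k : ℕ, Approx P G b (b + 1 - k) := fun k => Nat.rec s₀.some (fun k s => nxt k s) k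
  let j : ∀ k, (S k).E ⟶ (S (k + 1)).E := fun k => φ k (S k)
  let F := Functor.ofSequence j
  let τ : Cocone F :=
    { pt := G
      ι := NatTrans.ofSequence (fun k => (S k).q) fun k => by
        simp only [F, Functor.ofSequence_map_homOfLE_succ, Functor.const_obj_map]
        exact (hφ k (S k)).trans (Category.comp_id _).symm }
  let E := colimit F
  let q : E ⟶ G := colimit.desc F τ
  have hcoli : ∀ (i : ℤ) (k : ℕ), b + 1 - k ≤ i → IsIso ((colimit.ι F k).f i) := fun i k hk => by
    have hev : (F ⋙ HomologicalComplex.eval _ _ i).IsEventuallyConstantFrom k := by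
      intro l f
      obtain ⟨d, rfl⟩ := Nat.exists_eq_add_of_le (leOfHom f)
      obtain rfl : f = homOfLE (Nat.le_add_right k d) := Subsingleton.elim _ _
      induction d with
      | zero => exact inferInstanceAs (IsIso ((F ⋙ _).map (𝟙 k)))
      | succ d ih =>
        rw [show homOfLE (Nat.le_add_right k (d + 1)) =
          homOfLE (Nat.le_add_right k d) ≫ homOfLE (Nat.le_succ (k + d)) from rfl, Functor.map_comp]
        haveI := ih
        haveI : IsIso ((F ⋙ HomologicalComplex.eval _ _ i).map (homOfLE (Nat.le_succ (k + d)))) := by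
          simp only [Functor.comp_map, F, Functor.ofSequence_map_homOfLE_succ]
          exact hiso _ _ i (by lia)
        infer_instance
    exact hev.isIso_ι_of_isColimit (isColimitOfPreserves _ (colimit.isColimit F))
  haveI : QuasiIso q := by
    rw [quasiIso_iff]
    intro i
    let k := (b + 1 - (i - 2)).toNat
    rw [quasiIsoAt_iff_isIso_homologyMap]
    haveI := isIso_homologyMap_of_isIso_f (colimit.ι F k) i fun l hl _ => hcoli l k (by lia)
    have hq : HomologicalComplex.homologyMap (colimit.ι F k) i ≫ HomologicalComplex.homologyMap q i =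
        HomologicalComplex.homologyMap (τ.ι.app k) i := by
      exact (HomologicalComplex.homologyMap_comp _ _ i).symm.trans
        (congrArg (fun t => HomologicalComplex.homologyMap t i) (colimit.ι_desc τ k))
    haveI : IsIso (HomologicalComplex.homologyMap (τ.ι.app k) i) :=
      isIso_homologyMap_of_cone (S k).q i ((S k).miso _ (by lia)) ((S k).miso _ (by lia))
    exact IsIso.of_isIso_fac_left hq
  refine ⟨E, q, fun i hi => ?_, fun i => ?_, inferInstance⟩
  · haveI := hcoli i 0 (by lia)
    exact ((S 0).vanish i (Or.inr hi)).of_iso (asIso ((colimit.ι F 0).f i)).symm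
  · let k := (b + 1 - i).toNat
    haveI := hcoli i k (by lia)
    exact D.iso (asIso ((colimit.ι F k).f i)) ((S k).term i)

end Groth.Agent.EtConsShriek
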