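import Groth.Agent.EtConsShriek.Gen
import Groth.Agent.EtTrivGen.Tensor
import Groth.Agent.KFlat.RFlat
import Groth.Prelude.Def_EtModD2
import Mathlib.RingTheory.Flat.CategoryTheory
import Mathlib.CategoryTheory.Sites.Point.Monoidal

/-!
Sheaves of modules with flat stalks are flat for the tensor product; free sheaves and `j_! Λ` are flat.
-/

set_option autoImplicit false
set_option backward.isDefEq.respectTransparency false
set_option backward.isDefEq.respectTransparency.types false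
set_option linter.style.haveILetI false
set_option linter.unusedSectionVars false

universe u

open CategoryTheory CategoryTheory.Limits AlgebraicGeometry Opposite MonoidalCategory

noncomputable section

namespace Groth.Agent.EtConsShriek

variable {Λ : Type (u + 1)} [CommRing Λ] {X : Scheme.{u}}

section Stalk

variable {Ω : Type u} [Field Ω] [IsSepClosed Ω] (ξ : Spec (CommRingCat.of Ω) ⟶ X)

/-- stalks of a tensor product -/
def stTensorIso (F : EtModW.Mod Λ X) :
    (EtModD.tensorBi Λ X).flip.obj F ⋙ EtModW.stalk Λ ξ ≅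
      EtModW.stalk Λ ξ ⋙ tensorRight ((EtModW.stalk Λ ξ).obj F) :=
  let Φ := Scheme.pointSmallEtale ξ
  NatIso.ofComponents
    (fun G =>
      haveI : IsIso (Φ.presheafFiber.map (toSheafify X.smallEtaleTopology (G.obj ⊗ F.obj))) :=
        Φ.W_isInvertedBy_presheafFiber' _ (X.smallEtaleTopology.W_toSheafify _)
      (asIso (Φ.presheafFiber.map (toSheafify X.smallEtaleTopology (G.obj ⊗ F.obj)))).symm ≪≫
        (Functor.Monoidal.μIso Φ.presheafFiber G.obj F.obj).symm)
    (fun {G G'} a => by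
      haveI : IsIso (Φ.presheafFiber.map (toSheafify X.smallEtaleTopology (G.obj ⊗ F.obj))) :=
        Φ.W_isInvertedBy_presheafFiber' _ (X.smallEtaleTopology.W_toSheafify _)
      haveI : IsIso (Φ.presheafFiber.map (toSheafify X.smallEtaleTopology (G'.obj ⊗ F.obj))) :=
        Φ.W_isInvertedBy_presheafFiber' _ (X.smallEtaleTopology.W_toSheafify _)
      dsimp only [Iso.trans_hom, Iso.symm_hom, asIso_inv, Functor.Monoidal.μIso_inv]
      rw [Category.assoc, ← cancel_epi (Φ.presheafFiber.map (toSheafify X.smallEtaleTopology (G.obj ⊗ F.obj))),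
        IsIso.hom_inv_id_assoc]
      change Φ.presheafFiber.map (toSheafify X.smallEtaleTopology (G.obj ⊗ F.obj)) ≫
        Φ.presheafFiber.map (sheafifyMap X.smallEtaleTopology (a.hom ▷ F.obj)) ≫ _ = _
      rw [← Functor.map_comp_assoc, ← toSheafify_naturality, Functor.map_comp_assoc, IsIso.hom_inv_id_assoc]
      exact (Functor.OplaxMonoidal.δ_natural_left (F := Φ.presheafFiber) a.hom F.obj).symm)

theorem stalk_preservesColimits :
    PreservesColimitsOfSize.{u + 1, u + 1} (EtModW.stalk Λ ξ) :=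
  ((Scheme.pointSmallEtale ξ).skyscraperSheafAdjunction (A := ModuleCat.{u + 1} Λ)).leftAdjoint_preservesColimits

theorem stalk_exact : PreservesFiniteLimits (EtModW.stalk Λ ξ) ∧ PreservesFiniteColimits (EtModW.stalk Λ ξ) := by
  haveI := stalk_preservesColimits (Λ := Λ) ξ
  exact ⟨inferInstance, inferInstance⟩

end Stalk

/-- sheaves with zero stalks vanish -/
theorem isZero_of_stalks {Z : EtModW.Mod Λ X}
    (h : ∀ (Ω : Type u) [Field Ω] [IsSepClosed Ω] (ξ : Spec (CommRingCat.of Ω) ⟶ X),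
      IsZero ((EtModW.stalk Λ ξ).obj Z)) : IsZero Z := by
  have h' : IsIso (0 : Z ⟶ Z) := EtTrivGen.isIso_of_stalk _ fun Ω _ _ ξ =>
    ⟨0, (h Ω ξ).eq_of_src _ _, (h Ω ξ).eq_of_src _ _⟩
  exact (IsZero.iff_id_eq_zero _).2 (by rw [← IsIso.hom_inv_id (0 : Z ⟶ Z), zero_comp])

/-- **flat stalks give flat sheaves** -/
theorem flatObj_of_stalks {F : EtModW.Mod Λ X}
    (h : ∀ (Ω : Type u) [Field Ω] [IsSepClosed Ω] (ξ : Spec (CommRingCat.of Ω) ⟶ X),
      Module.Flat Λ ((EtModW.stalk Λ ξ).obj F : Type (u + 1))) :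
    KFlat.FlatObj (EtModD.tensorBi Λ X) F := by
  intro S hS
  rw [ShortComplex.exact_iff_isZero_homology]
  refine isZero_of_stalks fun Ω _ _ ξ => ?_
  haveI := (stalk_exact (Λ := Λ) ξ).1
  haveI := (stalk_exact (Λ := Λ) ξ).2
  haveI := h Ω ξ
  haveI : PreservesFiniteColimits (tensorRight ((EtModW.stalk Λ ξ).obj F)) := inferInstance
  let G := EtModW.stalk Λ ξ ⋙ tensorRight ((EtModW.stalk Λ ξ).obj F)
  haveI : G.PreservesZeroMorphisms := inferInstance
  have hG : (S.map G).Exact := hS.map G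
  have h2 : ((S.map ((EtModD.tensorBi Λ X).flip.obj F)).map (EtModW.stalk Λ ξ)).Exact :=
    ShortComplex.exact_of_iso (S.mapNatIso (stTensorIso ξ F)).symm hG
  exact ((ShortComplex.exact_iff_isZero_homology _).1 h2).of_iso
    (ShortComplex.mapHomologyIso _ (EtModW.stalk Λ ξ)).symm

section Free

variable (Λ X) in
/-- free sheaves of modules on presheaves of sets -/
def freeSh : (X.Etaleᵒᵖ ⥤ Type (u + 1)) ⥤ EtModW.Mod Λ X :=
  (Functor.whiskeringRight _ _ _).obj (ModuleCat.free Λ) ⋙ presheafToSheaf _ _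

variable (Λ X) in
/-- the underlying presheaf of sets -/
def forgetSh : EtModW.Mod Λ X ⥤ (X.Etaleᵒᵖ ⥤ Type (u + 1)) :=
  sheafToPresheaf _ _ ⋙ (Functor.whiskeringRight _ _ _).obj (forget (ModuleCat.{u + 1} Λ))

variable (Λ X) in
/-- free sheaves are left adjoint to the underlying presheaf of sets -/
def freeShAdj : freeSh Λ X ⊣ forgetSh Λ X :=
  ((ModuleCat.adj Λ).whiskerRight X.Etaleᵒᵖ).comp (sheafificationAdjunction X.smallEtaleTopology _)

/-- free sheaves have flat stalks -/
theorem flat_stalk_freeSh (S : X.Etaleᵒᵖ ⥤ Type (u + 1)) {Ω : Type u} [Field Ω] [IsSepClosed Ω]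
    (ξ : Spec (CommRingCat.of Ω) ⟶ X) : Module.Flat Λ ((EtModW.stalk Λ ξ).obj ((freeSh Λ X).obj S) : Type (u + 1)) := by
  let Φ := Scheme.pointSmallEtale ξ
  haveI : PreservesColimitsOfSize.{u + 1, u + 1} (ModuleCat.free Λ) :=
    (ModuleCat.adj Λ).leftAdjoint_preservesColimits
  haveI : PreservesColimitsOfSize.{u, u} (ModuleCat.free Λ) :=
    preservesColimitsOfSize_shrink.{u, u + 1, u, u + 1} _
  haveI : IsIso (Φ.presheafFiber.map (toSheafify X.smallEtaleTopology (S ⋙ ModuleCat.free Λ))) :=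
    Φ.W_isInvertedBy_presheafFiber' _ (X.smallEtaleTopology.W_toSheafify _)
  let e : (EtModW.stalk Λ ξ).obj ((freeSh Λ X).obj S) ≅ (ModuleCat.free Λ).obj (Φ.presheafFiber.obj S) :=
    (asIso (Φ.presheafFiber.map (toSheafify X.smallEtaleTopology (S ⋙ ModuleCat.free Λ)))).symm ≪≫
      (Φ.presheafFiberCompIso (ModuleCat.free Λ)).app S
  haveI : Module.Free Λ ((ModuleCat.free Λ).obj (Φ.presheafFiber.obj S) : Type (u + 1)) :=
    inferInstanceAs (Module.Free Λ ((Φ.presheafFiber.obj S : Type (u + 1)) →₀ Λ))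
  exact Module.Flat.of_linearEquiv e.toLinearEquiv

theorem flatObj_freeSh (S : X.Etaleᵒᵖ ⥤ Type (u + 1)) :
    KFlat.FlatObj (EtModD.tensorBi Λ X) ((freeSh Λ X).obj S) :=
  flatObj_of_stalks fun _ _ _ ξ => flat_stalk_freeSh S ξ

variable (Λ X) in
/-- the functorial cover by free sheaves -/
def coverF : EtModW.Mod Λ X ⥤ EtModW.Mod Λ X := forgetSh Λ X ⋙ freeSh Λ X

variable (Λ X) in
/-- its augmentation -/
def coverπ : coverF Λ X ⟶ 𝟭 _ := (freeShAdj Λ X).counit

instance epi_coverπ (F : EtModW.Mod Λ X) : Epi ((coverπ Λ X).app F) := by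
  haveI : (forgetSh Λ X).Faithful :=
    haveI : ((Functor.whiskeringRight X.Etaleᵒᵖ _ _).obj (forget (ModuleCat.{u + 1} Λ))).Faithful := inferInstance
    inferInstanceAs ((sheafToPresheaf _ _ ⋙ (Functor.whiskeringRight _ _ _).obj (forget (ModuleCat.{u + 1} Λ))).Faithful)
  exact (freeShAdj Λ X).counit_epi_of_R_faithful F

theorem flatObj_coverF (F : EtModW.Mod Λ X) : KFlat.FlatObj (EtModD.tensorBi Λ X) ((coverF Λ X).obj F) :=
  flatObj_freeSh _

/-- `j_! Λ` is a free sheaf -/
def freeShIso (V : X.Etale) :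
    (freeSh Λ X).obj (uliftYoneda.{u + 1}.obj (topOf V)) ≅ free Λ V :=
  let E : ∀ F : EtModW.Mod Λ X, (free Λ V ⟶ F) ≃
      ((freeSh Λ X).obj (uliftYoneda.{u + 1}.obj (topOf V)) ⟶ F) := fun F =>
    (freeEquiv V F).trans ((uliftYonedaEquiv.{u + 1} (F := (forgetSh Λ X).obj F) (X := topOf V)).symm.trans
      ((freeShAdj Λ X).homEquiv _ F).symm)
  Coyoneda.fullyFaithful.preimageIso
    (NatIso.ofComponents (fun F => (E F).toIso) (fun {F G} a => by
      refine ConcreteCategory.hom_ext _ _ fun φ => ?_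
      show E G (φ ≫ a) = E F φ ≫ a
      simp only [E, Equiv.trans_apply]
      rw [← Adjunction.homEquiv_naturality_right_symm]
      refine congrArg _ ?_
      rw [Equiv.symm_apply_eq, freeEquiv_apply]
      erw [uliftYonedaEquiv_comp, Equiv.apply_symm_apply]
      rw [freeEquiv_apply]
      rfl)) |>.unop

/-- **`j_! Λ` is flat** -/
theorem flatObj_free (V : X.Etale) : KFlat.FlatObj (EtModD.tensorBi Λ X) (free Λ V) :=
  KFlat.flatObj_of_iso (freeShIso V) (flatObj_freeSh _)

theorem flat_stalk_free (V : X.Etale) {Ω : Type u} [Field Ω] [IsSepClosed Ω]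
    (ξ : Spec (CommRingCat.of Ω) ⟶ X) : Module.Flat Λ ((EtModW.stalk Λ ξ).obj (free Λ V) : Type (u + 1)) :=
  haveI := flat_stalk_freeSh (Λ := Λ) (uliftYoneda.{u + 1}.obj (topOf V)) ξ
  Module.Flat.of_linearEquiv ((EtModW.stalk Λ ξ).mapIso (freeShIso V)).symm.toLinearEquiv

end Free

end Groth.Agent.EtConsShriek
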