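import Groth.Agent.EtConsShriek.TensorLocal

/-!
Finite sums of `j_! Λ` have flat stalks.
-/

set_option autoImplicit false
set_option backward.isDefEq.respectTransparency false
set_option backward.isDefEq.respectTransparency.types false
set_option linter.style.haveILetI false
set_option linter.unusedSectionVars false

universe u

open CategoryTheory CategoryTheory.Limits AlgebraicGeometry

attribute [local instance] CategoryTheory.Abelian.hasFiniteBiproducts

noncomputable section

namespace Groth.Agent.EtConsShriek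

variable {Λ : Type (u + 1)} [CommRing Λ] {X : Scheme.{u}}

theorem IsFree.hasFlatStalks {F : EtModW.Mod Λ X} (h : IsFree F) : HasFlatStalks F := fun Ω _ _ ξ => by
  obtain ⟨m, V, hV, ⟨e⟩⟩ := h
  haveI := (stalk_exact (Λ := Λ) ξ).1
  haveI := (stalk_exact (Λ := Λ) ξ).2
  haveI : ∀ k, Module.Flat Λ ((EtModW.stalk Λ ξ).obj (free Λ (V k)) : Type (u + 1)) := fun k => flat_stalk_free (V k) ξ
  haveI : (EtModW.stalk Λ ξ).Additive := Functor.additive_of_preserves_binary_products _
  haveI : PreservesBiproduct (fun k => free Λ (V k)) (EtModW.stalk Λ ξ) :=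
    (preservesBiproductsOfShape_of_preservesProductsOfShape (J := Fin m) (EtModW.stalk Λ ξ)).preserves
  let M : Fin m → Type (u + 1) := fun k => ((EtModW.stalk Λ ξ).obj (free Λ (V k)) : Type (u + 1))
  haveI : Module.Flat Λ (∀ k, M k) :=
    Module.Flat.of_linearEquiv (DirectSum.linearEquivFunOnFintype Λ (Fin m) M).symm
  let e' : ((EtModW.stalk Λ ξ).obj F : Type (u + 1)) ≃ₗ[Λ] (∀ k, M k) :=
    ((EtModW.stalk Λ ξ).mapIso e ≪≫ (EtModW.stalk Λ ξ).mapBiproduct (fun k => free Λ (V k)) ≪≫
      ModuleCat.biproductIsoPi _).toLinearEquiv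
  exact Module.Flat.of_linearEquiv e'

end Groth.Agent.EtConsShriek
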