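import Groth.Agent.EtConsShriek.Main
import Groth.Agent.EtConsShriek.ClassRes
import Groth.Agent.EtTrivGen.AdicOpen
import Groth.Agent.EtTrivGen.Const
import Groth.Agent.EtCons.Presentation
import Groth.Agent.EtCons.Supp
import Groth.Prelude.Def_SixF2

/-!
Constructible sheaves of modules are generated by finitely many `j_! Λ` with `j` etale from an affine scheme, also
through any epimorphism.
-/

set_option autoImplicit false
set_option backward.isDefEq.respectTransparency false
set_option backward.isDefEq.respectTransparency.types false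
set_option linter.style.haveILetI false
set_option linter.unusedSectionVars false

universe u

open CategoryTheory CategoryTheory.Limits AlgebraicGeometry Opposite Topology
open Groth.Agent.EtTrivGen

noncomputable section

namespace Groth.Agent.EtConsShriek

attribute [local instance] CategoryTheory.Abelian.hasFiniteBiproducts

variable {Λ : Type (u + 1)} [CommRing Λ] {X : Scheme.{u}}

/-- constant sheaves of finite modules are locally constant of finite type -/
theorem isFTLocConst_constMod (M : Type (u + 1)) [AddCommGroup M] [Module Λ M] [Module.Finite Λ M] :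
    EtModW.IsFTLocConst Λ (EtModW.constMod Λ X M) := by
  rw [isFTLocConst_iff]
  intro Ω _ _ ξ
  let y : Over.mk ξ ⟶ (Scheme.Etale.forget X).obj (EtCoh.top X) := Over.homMk ξ (Category.comp_id _)
  refine ⟨EtCoh.top X, y, M, inferInstance, inferInstance, inferInstance,
    (cst (ModuleCat.of Λ M) (EtCoh.top X)).hom, ?_⟩
  rw [isTrivG_iff]
  intro Ω' _ _ η x
  exact bijective_germ_cst (ModuleCat.of Λ M) η x

variable (Λ) in
/-- `j_! Λ` for an etale `X`-scheme -/
def free (V : X.Etale) : EtModW.Mod Λ X :=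
  haveI : Etale V.hom := V.prop
  haveI : EtShriek.JCont V.hom := EtMV.jcont_etale _
  (EtSix.extZeroMod Λ V.hom).obj (EtSix.constΛ Λ V.left)

/-- the object on which the generating section lives -/
def topOf (V : X.Etale) : X.Etale :=
  haveI : Etale V.hom := V.prop
  (EtShriek.compEtale V.hom).obj (EtCoh.top V.left)

/-- maps out of `j_! Λ` are sections -/
def freeEquiv (V : X.Etale) (F : EtModW.Mod Λ X) :
    (free Λ V ⟶ F) ≃ (F.obj.obj (op (topOf V)) : Type (u + 1)) :=
  haveI : Etale V.hom := V.prop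
  haveI : EtShriek.JCont V.hom := EtMV.jcont_etale _
  let S := (EtSix.gsecMod Λ V.left).obj ((EtSix.restrMod Λ V.hom).obj F)
  (((EtSix.extZeroModAdj Λ V.hom).homEquiv _ F).trans
    ((EtSix.constModAdj Λ V.left).homEquiv (ModuleCat.of Λ Λ) _)).trans
    { toFun := fun φ => φ.hom 1
      invFun := fun s => ModuleCat.ofHom (LinearMap.toSpanSingleton Λ S s)
      left_inv := fun φ => ModuleCat.hom_ext (LinearMap.ext_ring (one_smul Λ (φ.hom 1)))
      right_inv := fun s => one_smul Λ s }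

/-- the generating section -/
def gen (V : X.Etale) : ((free Λ V).obj.obj (op (topOf V)) : Type (u + 1)) :=
  freeEquiv V (free Λ V) (𝟙 _)

theorem freeEquiv_apply (V : X.Etale) {F : EtModW.Mod Λ X} (φ : free Λ V ⟶ F) :
    freeEquiv V F φ = ap φ (topOf V) (gen V) := by
  haveI : Etale V.hom := V.prop
  haveI : EtShriek.JCont V.hom := EtMV.jcont_etale _
  let a := EtSix.extZeroModAdj Λ V.hom
  let c := EtSix.constModAdj Λ V.left
  show ((c.homEquiv (ModuleCat.of Λ Λ) _) (a.homEquiv _ F φ)).hom 1 =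
    ap φ (topOf V) (((c.homEquiv (ModuleCat.of Λ Λ) _) (a.homEquiv _ _ (𝟙 (free Λ V)))).hom 1)
  conv_lhs => rw [← Category.id_comp φ, a.homEquiv_naturality_right, c.homEquiv_naturality_right]
  rfl

/-- surjectivity of germs through an epimorphism, at one vector -/
theorem exists_free_hit [CompactSpace X] [QuasiSeparatedSpace X] {Z H : EtModW.Mod Λ X} (π : Z ⟶ H) [Epi π]
    {Ω : Type u} [Field Ω] [IsSepClosed Ω] (ξ : Spec (CommRingCat.of Ω) ⟶ X) (z : (EtModW.stalk Λ ξ).obj H) :
    ∃ (V : X.Etale) (_ : IsAffine V.left) (g : free Λ V ⟶ Z),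
      z ∈ Set.range ((EtModW.stalk Λ ξ).map (g ≫ π)).hom := by
  haveI : PreservesColimitsOfSize.{u + 1, u + 1} (EtModW.stalk Λ ξ) :=
    ((Scheme.pointSmallEtale ξ).skyscraperSheafAdjunction (A := ModuleCat.{u + 1} Λ)).leftAdjoint_preservesColimits
  haveI : Epi ((EtModW.stalk Λ ξ).map π) := inferInstance
  obtain ⟨z', rfl⟩ := (ModuleCat.epi_iff_surjective _).1 this z
  obtain ⟨U, y, s, rfl⟩ := exists_gm Z z'
  let y₁ : Over.mk ξ ⟶ (Scheme.Etale.forget X).obj U := y
  obtain ⟨O, hO, hyO, -⟩ := EtCons.exists_affine_le (V := (⊤ : U.left.Opens))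
    (x := y₁.left (default : Spec (CommRingCat.of Ω))) trivial
  haveI : Etale U.hom := U.prop
  let V : X.Etale := Scheme.Etale.mk (O.ι ≫ U.hom)
  haveI hV : IsAffine V.left := hO
  let i : topOf V ⟶ U := MorphismProperty.Over.homMk O.ι (Category.id_comp _).symm
  have hr : Set.range y₁.left ⊆ Set.range O.ι := by
    rintro _ ⟨w, rfl⟩
    rw [Scheme.Opens.range_ι, Subsingleton.elim (α := Spec (CommRingCat.of Ω)) w default]
    exact hyO
  let y₂ : Over.mk ξ ⟶ (Scheme.Etale.forget X).obj (topOf V) :=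
    Over.homMk (IsOpenImmersion.lift O.ι y₁.left hr) (by
      change IsOpenImmersion.lift O.ι y₁.left hr ≫ 𝟙 _ ≫ O.ι ≫ U.hom = ξ
      rw [Category.id_comp, IsOpenImmersion.lift_fac_assoc]
      exact Over.w y₁)
  have hy : (Scheme.pointSmallEtale ξ).fiber.map i y₂ = y := Over.OverMorphism.ext (IsOpenImmersion.lift_fac _ _ _)
  let g : free Λ V ⟶ Z := (freeEquiv V Z).symm (rs Z i s)
  have hg : ap g (topOf V) (gen V) = rs Z i s := by
    rw [← freeEquiv_apply]
    exact (freeEquiv V Z).apply_symm_apply _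
  refine ⟨V, hV, g, gm (free Λ V) y₂ (gen V), ?_⟩
  rw [Functor.map_comp]
  refine congrArg ((EtModW.stalk Λ ξ).map π).hom ?_
  refine (map_gm g y₂ (gen V)).trans ?_
  rw [hg, gm_rs, hy]

/-- stalks of constructible sheaves are finitely generated -/
theorem finite_stalk {F : EtModW.Mod Λ X} (hF : EtModW.IsConstructible Λ F) {Ω : Type u} [Field Ω] [IsSepClosed Ω]
    (ξ : Spec (CommRingCat.of Ω) ⟶ X) : Module.Finite Λ ((EtModW.stalk Λ ξ).obj F : Type (u + 1)) := by
  obtain ⟨D, hD, -, T, g, C, hg, -, ⟨_, hxC⟩, hCg, hft⟩ :=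
    (isConstructible_iff_goodAt F).1 hF (ξ (default : Spec (CommRingCat.of Ω)))
  haveI := hg
  obtain ⟨t, ht⟩ := hCg ⟨_, hxC, rfl⟩
  obtain ⟨η, rfl, -⟩ := EtCons.exists_point_lift g ξ t ht.symm
  obtain ⟨U, y, M, _, _, _, σ, hσ⟩ := (isFTLocConst_iff _).1 hft Ω η
  let x₀ : Over.mk (η ≫ g) ⟶ (Scheme.Etale.forget X).obj (EtCoh.top X) := Over.homMk (η ≫ g) (Category.comp_id _)
  obtain ⟨e, -, -, -⟩ := exists_stalk_equiv g F η (U := EtCoh.top X) x₀
  let f : M →ₗ[Λ] ((EtModW.stalk Λ η).obj ((EtModW.pull Λ g).obj F) : Type (u + 1)) := (gm _ y).comp σ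
  haveI : Module.Finite Λ ((EtModW.stalk Λ η).obj ((EtModW.pull Λ g).obj F) : Type (u + 1)) :=
    Module.Finite.of_surjective f (hσ.bij y).2
  exact Module.Finite.equiv e.symm

/-- vanishing of a stalk spreads out on a constructible neighbourhood -/
theorem exists_zero_nhd [CompactSpace X] [QuasiSeparatedSpace X] {F : EtModW.Mod Λ X}
    (hF : EtModW.IsConstructible Λ F) {Ω : Type u} [Field Ω] [IsSepClosed Ω] (ξ : Spec (CommRingCat.of Ω) ⟶ X)
    (h : Subsingleton ((EtModW.stalk Λ ξ).obj F : Type (u + 1))) :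
    ∃ C : Set X, IsLocallyConstructible C ∧ ξ (default : Spec (CommRingCat.of Ω)) ∈ C ∧
      ∀ (Ω' : Type u) [Field Ω'] [IsSepClosed Ω'] (η : Spec (CommRingCat.of Ω') ⟶ X),
        η (default : Spec (CommRingCat.of Ω')) ∈ C → Subsingleton ((EtModW.stalk Λ η).obj F : Type (u + 1)) := by
  obtain ⟨D, hD, hxD, T, g, C, hg, hC, ⟨_, hxC⟩, hCg, hft⟩ :=
    (isConstructible_iff_goodAt F).1 hF (ξ (default : Spec (CommRingCat.of Ω)))
  haveI := hg
  obtain ⟨t, ht⟩ := hCg ⟨_, hxC, rfl⟩
  obtain ⟨ζ, rfl, hζ⟩ := EtCons.exists_point_lift g ξ t ht.symm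
  obtain ⟨U, y, M, _, _, _, σ, hσ⟩ := (isFTLocConst_iff _).1 hft Ω ζ
  let x₀ : Over.mk (ζ ≫ g) ⟶ (Scheme.Etale.forget X).obj (EtCoh.top X) := Over.homMk (ζ ≫ g) (Category.comp_id _)
  obtain ⟨e, -, -, -⟩ := exists_stalk_equiv g F ζ (U := EtCoh.top X) x₀
  haveI : Subsingleton ((EtModW.stalk Λ ζ).obj ((EtModW.pull Λ g).obj F) : Type (u + 1)) :=
    e.symm.injective.subsingleton
  haveI hM : Subsingleton M := (hσ.bij y).1.subsingleton
  haveI : Etale U.hom := U.prop
  obtain ⟨O', hO', hO'e⟩ := g.isEmbedding.isInducing.isOpen_iff.1 U.hom.isOpenMap.isOpen_range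
  let y' : Over.mk ζ ⟶ (Scheme.Etale.forget T).obj U := y
  have htU : t ∈ Set.range U.hom := ⟨y'.left (default : Spec (CommRingCat.of Ω)),
    (congrArg (fun q : Spec (CommRingCat.of Ω) ⟶ T => q default) (Over.w y')).trans hζ⟩
  have hxO : (ζ ≫ g) (default : Spec (CommRingCat.of Ω)) ∈ O' := by
    show g (ζ default) ∈ O'
    rw [hζ]
    exact (Set.ext_iff.1 hO'e t).2 htU
  obtain ⟨D', hD', hxD', hD'le⟩ := EtCons.exists_affine_le (V := D ⊓ ⟨O', hO'⟩) ⟨hxD, hxO⟩
  have hc1 : IsConstructible (Subtype.val '' C : Set X) :=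
    hC.image_of_isOpenEmbedding D.isOpen.isOpenEmbedding_subtypeVal
      (by rw [Subtype.range_coe_subtype]; exact hD.isCompact.isRetrocompact D.isOpen)
  have hc2 : IsConstructible (D' : Set X) := (hD'.isCompact.isRetrocompact D'.isOpen).isConstructible D'.isOpen
  refine ⟨Subtype.val '' C ∩ D', (hc1.inter hc2).isLocallyConstructible, ⟨⟨_, hxC, rfl⟩, hxD'⟩,
    fun Ω' _ _ η hη => ?_⟩
  obtain ⟨s, hs⟩ := hCg hη.1
  obtain ⟨θ, rfl, hθ⟩ := EtCons.exists_point_lift g η s hs.symm
  have hsU : s ∈ Set.range U.hom := (Set.ext_iff.1 hO'e s).1 (by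
    show g s ∈ O'
    rw [hs]
    exact (hD'le hη.2).2)
  obtain ⟨u₀, hu₀⟩ := hsU
  obtain ⟨l, -⟩ := Scheme.pointSmallEtaleFiberObjToPreimage_surjective θ (s₀ := s) hθ U ⟨u₀, hu₀⟩
  haveI : Subsingleton ((EtModW.stalk Λ θ).obj ((EtModW.pull Λ g).obj F) : Type (u + 1)) :=
    (hσ.bij l).2.subsingleton
  let x₁ : Over.mk (θ ≫ g) ⟶ (Scheme.Etale.forget X).obj (EtCoh.top X) := Over.homMk (θ ≫ g) (Category.comp_id _)
  obtain ⟨e', -, -, -⟩ := exists_stalk_equiv g F θ (U := EtCoh.top X) x₁
  exact e'.injective.subsingleton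

section Class

/-- finite sums stay in a class closed under extensions -/
theorem sum_mem {A : Type*} [Category A] [Abelian A] (S : A → Prop) (h0 : ∀ {Z : A}, IsZero Z → S Z)
    (hext : ∀ {T : ShortComplex A}, T.ShortExact → S T.X₁ → S T.X₃ → S T.X₂) :
    ∀ {m : ℕ} (B : Fin m → A), (∀ j, S (B j)) → S (⨁ B) := by
  intro m
  induction m with
  | zero =>
    intro B _
    exact h0 ((IsZero.iff_id_eq_zero _).2 (biproduct.hom_ext _ _ fun j => j.elim0))
  | succ m ih =>
    intro B hB
    let B' : Fin m → A := fun j => B j.succ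
    let i₁ : B 0 ⟶ ⨁ B := biproduct.ι B 0
    let p₂ : ⨁ B ⟶ ⨁ B' := biproduct.lift fun j => biproduct.π B j.succ
    let s₂ : ⨁ B' ⟶ ⨁ B := biproduct.desc fun j => biproduct.ι B j.succ
    have h0' : i₁ ≫ p₂ = 0 := by
      refine biproduct.hom_ext _ _ fun j => ?_
      rw [Category.assoc, biproduct.lift_π, zero_comp]
      exact biproduct.ι_π_ne B (Fin.succ_ne_zero j).symm
    refine hext (T := ShortComplex.mk i₁ p₂ h0') (ShortComplex.Splitting.shortExact ?_) (hB 0) (ih B' fun j => hB _)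
    refine
      { r := biproduct.π B 0
        s := s₂
        f_r := biproduct.ι_π_self B 0
        s_g := ?_
        id := ?_ }
    · refine biproduct.hom_ext' _ _ fun j => biproduct.hom_ext _ _ fun k => ?_
      simp only [s₂, p₂, biproduct.ι_desc_assoc, Category.assoc, biproduct.lift_π, Category.comp_id]
      by_cases hjk : j = k
      · subst hjk
        rw [biproduct.ι_π_self, biproduct.ι_π_self]
      · rw [biproduct.ι_π_ne _ hjk, biproduct.ι_π_ne B (fun e => hjk (Fin.succ_injective _ e))]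
    · have h1 : ∑ j : Fin (m + 1), biproduct.π B j ≫ biproduct.ι B j = 𝟙 _ := biproduct.total
      rw [Fin.sum_univ_succ] at h1
      refine Eq.trans ?_ h1
      congr 1
      rw [biproduct.lift_desc]

end Class

/-- finite sums of `j_! Λ`, `j` etale from an affine scheme -/
def IsFree (F : EtModW.Mod Λ X) : Prop :=
  ∃ (m : ℕ) (V : Fin m → X.Etale), (∀ k, IsAffine (V k).left) ∧ Nonempty (F ≅ ⨁ fun k => free Λ (V k))

theorem isFree_of_fintype {ι : Type} [Fintype ι] (V : ι → X.Etale) (hV : ∀ k, IsAffine (V k).left)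
    {F : EtModW.Mod Λ X} (e : F ≅ ⨁ fun k => free Λ (V k)) : IsFree F :=
  ⟨Fintype.card ι, fun k => V ((Fintype.equivFin ι).symm k), fun _ => hV _,
    ⟨e ≪≫ (biproduct.reindex (Fintype.equivFin ι).symm fun k => free Λ (V k)).symm⟩⟩

theorem IsFree.ofIso {F G : EtModW.Mod Λ X} (e : F ≅ G) (h : IsFree F) : IsFree G := by
  obtain ⟨m, V, hV, ⟨e'⟩⟩ := h
  exact ⟨m, V, hV, ⟨e.symm ≪≫ e'⟩⟩

theorem IsFree.of_isZero {F : EtModW.Mod Λ X} (h : IsZero F) : IsFree F :=
  ⟨0, Fin.elim0, fun k => k.elim0,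
    ⟨h.iso ((IsZero.iff_id_eq_zero _).2 (biproduct.hom_ext _ _ fun j => j.elim0))⟩⟩

theorem IsFree.biprod {F G : EtModW.Mod Λ X} (hF : IsFree F) (hG : IsFree G) : IsFree (F ⊞ G) := by
  obtain ⟨m, V, hV, ⟨e⟩⟩ := hF
  obtain ⟨n, W, hW, ⟨e'⟩⟩ := hG
  let T : Fin m ⊕ Fin n → X.Etale := Sum.elim V W
  let a : (⨁ fun k => free Λ (V k)) ⟶ ⨁ fun k => free Λ (T k) :=
    biproduct.desc fun k => biproduct.ι (fun k => free Λ (T k)) (Sum.inl k)
  let b : (⨁ fun k => free Λ (W k)) ⟶ ⨁ fun k => free Λ (T k) :=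
    biproduct.desc fun k => biproduct.ι (fun k => free Λ (T k)) (Sum.inr k)
  let c : (⨁ fun k => free Λ (T k)) ⟶ (⨁ fun k => free Λ (V k)) ⊞ (⨁ fun k => free Λ (W k)) :=
    biproduct.desc fun k => match k with
      | Sum.inl k => biproduct.ι (fun k => free Λ (V k)) k ≫ biprod.inl
      | Sum.inr k => biproduct.ι (fun k => free Λ (W k)) k ≫ biprod.inr
  refine isFree_of_fintype T (fun k => by cases k <;> simp [T, hV, hW])
    (biprod.mapIso e e' ≪≫ { hom := biprod.desc a b, inv := c, hom_inv_id := ?_, inv_hom_id := ?_ })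
  · refine biprod.hom_ext' _ _ (biproduct.hom_ext' _ _ fun k => ?_) (biproduct.hom_ext' _ _ fun k => ?_) <;>
      simp [a, b, c]
  · refine biproduct.hom_ext' _ _ fun k => ?_
    rcases k with k | k <;> simp [a, b, c]

variable [CompactSpace X] [QuasiSeparatedSpace X]

theorem isConstructible_free (V : X.Etale) [IsAffine V.left] : EtModW.IsConstructible Λ (free Λ V) := by
  haveI : Etale V.hom := V.prop
  haveI : EtShriek.JCont V.hom := EtMV.jcont_etale _
  haveI : QuasiSeparated (terminal.from X) := (quasiSeparatedSpace_iff_quasiSeparated X).1 inferInstance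
  haveI : CompactSpace ↥((𝟭 Scheme).obj V.left) := inferInstanceAs (CompactSpace ↥V.left)
  haveI : QuasiSeparatedSpace ↥((𝟭 Scheme).obj V.left) := inferInstanceAs (QuasiSeparatedSpace ↥V.left)
  haveI : QuasiCompact V.hom := by
    haveI : QuasiCompact (V.hom ≫ terminal.from X) := by
      rw [Subsingleton.elim (V.hom ≫ terminal.from X) (terminal.from V.left)]
      exact (quasiCompact_iff_compactSpace _).2 inferInstance
    exact MorphismProperty.of_postcomp @QuasiCompact V.hom (terminal.from X) ‹_› ‹_›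
  haveI : QuasiSeparated V.hom := by
    haveI : QuasiSeparated (V.hom ≫ terminal.from X) := by
      rw [Subsingleton.elim (V.hom ≫ terminal.from X) (terminal.from V.left)]
      exact (quasiSeparatedSpace_iff_quasiSeparated _).1 inferInstance
    exact QuasiSeparated.of_comp V.hom (terminal.from X)
  exact isConstructible_extZeroMod V.hom
    (isConstructible_of_isFTLocConst (isFTLocConst_constMod (X := V.left) Λ))

theorem isConstructible_sum [IsNoetherianRing Λ] {m : ℕ} (V : Fin m → X.Etale) (hV : ∀ k, IsAffine (V k).left) :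
    EtModW.IsConstructible Λ (⨁ fun k => free Λ (V k)) :=
  sum_mem (EtModW.IsConstructible Λ)
    (fun {Z} hZ => isConstructible_of_isFTLocConst (IsFTLocConst.ofIso
      ((hZ.iso (show IsZero (EtModW.constMod Λ X PUnit.{u + 2}) from
        (constantSheaf X.smallEtaleTopology (ModuleCat.{u + 1} Λ)).map_isZero
          (ModuleCat.isZero_of_subsingleton _)))).symm (isFTLocConst_constMod PUnit.{u + 2})))
    (fun hT h₁ h₃ => isConstructible_middle hT h₁ h₃) _ fun k => by
      haveI := hV k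
      exact isConstructible_free (V k)

theorem IsFree.isConstructible [IsNoetherianRing Λ] {F : EtModW.Mod Λ X} (h : IsFree F) :
    EtModW.IsConstructible Λ F := by
  obtain ⟨m, V, hV, ⟨e⟩⟩ := h
  exact IsConstructible.ofIso e.symm (isConstructible_sum V hV)

/-- **constructible sheaves are finitely generated, through any epimorphism** -/
theorem exists_gen [IsNoetherianRing Λ] {Z H : EtModW.Mod Λ X} (π : Z ⟶ H) [Epi π]
    (hH : EtModW.IsConstructible Λ H) : ∃ (F : EtModW.Mod Λ X) (g : F ⟶ Z), IsFree F ∧ Epi (g ≫ π) := by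
  classical
  choose Ω iF iS ξ hξ₀ hξ using EtStalk.covers_all (X := X)
  have hloc : ∀ x : X, ∃ (m : ℕ) (V : Fin m → X.Etale) (_ : ∀ k, IsAffine (V k).left)
      (g : (⨁ fun k => free Λ (V k)) ⟶ Z),
      @Subsingleton ((@EtModW.stalk Λ _ X (Ω x) (iF x) (iS x) (ξ x)).obj (cokernel (g ≫ π)) : Type (u + 1)) := by
    intro x
    letI := iF x
    letI := iS x
    haveI := finite_stalk hH (ξ x)
    obtain ⟨m, v, hv⟩ := Module.Finite.exists_fin (R := Λ) (M := ((EtModW.stalk Λ (ξ x)).obj H : Type (u + 1)))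
    choose V hV g hg using fun k => exists_free_hit π (ξ x) (v k)
    refine ⟨m, V, hV, biproduct.desc g, ?_⟩
    let S := EtModW.stalk Λ (ξ x)
    haveI : PreservesColimitsOfSize.{u + 1, u + 1} S :=
      ((Scheme.pointSmallEtale (ξ x)).skyscraperSheafAdjunction (A := ModuleCat.{u + 1} Λ)).leftAdjoint_preservesColimits
    haveI : Epi (S.map (biproduct.desc g ≫ π)) := by
      rw [ModuleCat.epi_iff_range_eq_top, eq_top_iff, ← hv, Submodule.span_le]
      rintro _ ⟨k, rfl⟩
      obtain ⟨w, hw⟩ := hg k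
      refine ⟨(S.map (biproduct.ι (fun k => free Λ (V k)) k)).hom w, ?_⟩
      have e : S.map (biproduct.ι (fun k => free Λ (V k)) k) ≫ S.map (biproduct.desc g ≫ π) = S.map (g k ≫ π) := by
        rw [← Functor.map_comp, biproduct.ι_desc_assoc]
      exact (congrArg (fun f => f.hom w) e).trans hw
    exact ModuleCat.subsingleton_of_isZero ((isZero_cokernel_of_epi _).of_iso (PreservesCokernel.iso S _))
  choose m V hV g hg using hloc
  have hQ : ∀ x, EtModW.IsConstructible Λ (cokernel (g x ≫ π)) := fun x =>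
    (isConstructible_kernel_cokernel _ (isConstructible_sum (V x) (hV x)) hH).2
  have hnhd : ∀ x : X, ∃ C : Set X, IsLocallyConstructible C ∧ x ∈ C ∧
      ∀ (Ω' : Type u) [Field Ω'] [IsSepClosed Ω'] (η : Spec (CommRingCat.of Ω') ⟶ X),
        η (default : Spec (CommRingCat.of Ω')) ∈ C →
          Subsingleton ((EtModW.stalk Λ η).obj (cokernel (g x ≫ π)) : Type (u + 1)) := fun x => by
    letI := iF x
    letI := iS x
    obtain ⟨C, hC, hxC, h⟩ := exists_zero_nhd (hQ x) (ξ x) (hg x)
    exact ⟨C, hC, hξ x ▸ hxC, h⟩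
  choose C hC hxC hCz using hnhd
  obtain ⟨s, hs⟩ := EtCons.finite_subcover_cons C hC fun x => ⟨x, hxC x⟩
  let ι := Σ k : Fin s.card, Fin (m (s.equivFin.symm k).1)
  let W : ι → X.Etale := fun i => V (s.equivFin.symm i.1).1 i.2
  let G : (⨁ fun i => free Λ (W i)) ⟶ Z :=
    biproduct.desc fun i => biproduct.ι (fun k => free Λ (V (s.equivFin.symm i.1).1 k)) i.2 ≫ g (s.equivFin.symm i.1).1
  refine ⟨_, G, isFree_of_fintype W (fun i => hV _ _) (Iso.refl _), ?_⟩
  haveI : Sheaf.IsLocallySurjective (G ≫ π) := by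
    refine EtStalk.isLocallySurjective_of_stalk _ fun Ω' _ _ η => ?_
    obtain ⟨x, hxs, hηx⟩ := hs (η (default : Spec (CommRingCat.of Ω')))
    let k := s.equivFin ⟨x, hxs⟩
    have hk : (s.equivFin.symm k).1 = x := by simp [k]
    have hz := hCz (s.equivFin.symm k).1 Ω' η (hk.symm ▸ hηx)
    let S := EtModW.stalk Λ η
    haveI : PreservesColimitsOfSize.{u + 1, u + 1} S :=
      ((Scheme.pointSmallEtale η).skyscraperSheafAdjunction (A := ModuleCat.{u + 1} Λ)).leftAdjoint_preservesColimits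
    let q := g (s.equivFin.symm k).1 ≫ π
    haveI : Epi (S.map q) := by
      haveI := hz
      exact Preadditive.epi_of_cokernel_zero
        (((ModuleCat.isZero_of_subsingleton (S.obj (cokernel q))).of_iso (PreservesCokernel.iso S q).symm).eq_of_tgt _ _)
    let r : (⨁ fun l => free Λ (V (s.equivFin.symm k).1 l)) ⟶ ⨁ fun i => free Λ (W i) :=
      biproduct.desc fun l => biproduct.ι (fun i => free Λ (W i)) (⟨k, l⟩ : ι)
    have hr : r ≫ G = g (s.equivFin.symm k).1 := biproduct.hom_ext' _ _ fun l => by simp [r, G, W]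
    haveI : Epi (S.map (G ≫ π)) := by
      have e : S.map r ≫ S.map (G ≫ π) = S.map q := by
        rw [← Functor.map_comp, ← Category.assoc, hr]
      exact epi_of_epi_fac e
    exact (ModuleCat.epi_iff_surjective (S.map (G ≫ π))).1 inferInstance
  infer_instance

/-- the class data -/
theorem data [IsNoetherianRing Λ] : Data (IsFree (Λ := Λ) (X := X)) (EtModW.IsConstructible Λ) where
  zero := IsFree.of_isZero
  iso := IsFree.ofIso
  biprod := IsFree.biprod
  le := IsFree.isConstructible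
  isoS := fun e => IsConstructible.ofIso e
  ker f hX hY := isConstructible_kernel_cokernel f hX hY
  ext := fun hS h1 h3 => isConstructible_middle hS h1 h3
  gen π _ hH := exists_gen π hH

end Groth.Agent.EtConsShriek
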