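import Groth.Agent.EtConsShriek.Gen
import Groth.Prelude.Def_EtModD2

/-!
Bounded above complexes of sums of `j_! Λ` represent the bounded above objects with constructible cohomology.
-/

set_option autoImplicit false
set_option backward.isDefEq.respectTransparency false
set_option backward.isDefEq.respectTransparency.types false
set_option linter.style.haveILetI false
set_option linter.unusedSectionVars false

universe u

open CategoryTheory CategoryTheory.Limits AlgebraicGeometry

attribute [local instance] HasDerivedCategory.standard CategoryTheory.Abelian.hasFiniteBiproducts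

noncomputable section

namespace Groth.Agent.EtConsShriek

variable {Λ : Type (u + 1)} [CommRing Λ] {X : Scheme.{u}}

/-- free sheaves in the form of a coproduct -/
theorem IsFree.exists_coprod {F : EtModW.Mod Λ X} (h : IsFree F) :
    ∃ (m : ℕ) (U : Fin m → Scheme.{u}) (j : ∀ k, U k ⟶ X) (_ : ∀ k, Etale (j k)) (_ : ∀ k, IsAffine (U k)),
      ∀ [∀ k, EtShriek.JCont (j k)],
        Nonempty (F ≅ ∐ fun k => (EtSix.extZeroMod Λ (j k)).obj (EtSix.constΛ Λ (U k))) := by
  obtain ⟨m, V, hV, ⟨e⟩⟩ := h
  refine ⟨m, fun k => (V k).left, fun k => (V k).hom, fun k => (V k).prop, hV, ?_⟩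
  intro _
  exact ⟨e ≪≫ biproduct.isoCoproduct (fun k => free Λ (V k))⟩

theorem isFree_of_coprod {m : ℕ} (U : Fin m → Scheme.{u}) (j : ∀ k, U k ⟶ X) [∀ k, Etale (j k)]
    (hU : ∀ k, IsAffine (U k)) [∀ k, EtShriek.JCont (j k)] {F : EtModW.Mod Λ X}
    (e : F ≅ ∐ fun k => (EtSix.extZeroMod Λ (j k)).obj (EtSix.constΛ Λ (U k))) : IsFree F :=
  ⟨m, fun k => Scheme.Etale.mk (j k), hU,
    ⟨e ≪≫ (biproduct.isoCoproduct (fun k => free Λ (Scheme.Etale.mk (j k)))).symm⟩⟩

variable [IsNoetherianRing Λ] [CompactSpace X] [QuasiSeparatedSpace X]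

/-- a single degree hitting a constructible cohomology sheaf -/
theorem exists_single_epi (K : EtModD.D Λ X) (b : ℤ) (hK : EtModW.IsConstructible Λ (EtModD.HD K b)) :
    ∃ (F : EtModW.Mod Λ X), IsFree F ∧
      ∃ φ : (DerivedCategory.singleFunctor (EtModW.Mod Λ X) b).obj F ⟶ K,
        Epi ((DerivedCategory.homologyFunctor (EtModW.Mod Λ X) b).map φ) := by
  let C : CochainComplex (EtModW.Mod Λ X) ℤ := DerivedCategory.Q.objPreimage K
  let e : DerivedCategory.Q.obj C ≅ K := DerivedCategory.Q.objObjPreimageIso K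
  have hC : EtModW.IsConstructible Λ (C.homology b) :=
    EtTrivGen.IsConstructible.ofIso (((DerivedCategory.homologyFunctor _ b).mapIso e).symm ≪≫
      (DerivedCategory.homologyFunctorFactors _ b).app C) hK
  obtain ⟨F, g, hF, hg⟩ := exists_gen (C.homologyπ b) hC
  let ψ : (HomologicalComplex.single _ (ComplexShape.up ℤ) b).obj F ⟶ C :=
    HomologicalComplex.mkHomFromSingle (g ≫ C.iCycles b) (fun k _ => by simp)
  have hψ : (HomologicalComplex.singleObjCyclesSelfIso (ComplexShape.up ℤ) b F).inv ≫
      HomologicalComplex.cyclesMap ψ b = g := by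
    rw [← cancel_mono (C.iCycles b), Category.assoc, HomologicalComplex.cyclesMap_i,
      HomologicalComplex.singleObjCyclesSelfIso_inv_iCycles_assoc, HomologicalComplex.mkHomFromSingle_f]
    simp
  haveI : Epi (HomologicalComplex.homologyMap ψ b) := by
    haveI := hg
    refine epi_of_epi_fac (f := (HomologicalComplex.singleObjCyclesSelfIso (ComplexShape.up ℤ) b F).inv ≫
      ((HomologicalComplex.single _ (ComplexShape.up ℤ) b).obj F).homologyπ b) (h := g ≫ C.homologyπ b) ?_
    rw [Category.assoc, HomologicalComplex.homologyπ_naturality, reassoc_of% hψ]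
  refine ⟨F, hF, ((DerivedCategory.singleFunctorIsoCompQ (EtModW.Mod Λ X) b).app F).hom ≫
    DerivedCategory.Q.map ψ ≫ e.hom, ?_⟩
  haveI : Epi ((DerivedCategory.homologyFunctor (EtModW.Mod Λ X) b).map (DerivedCategory.Q.map ψ)) :=
    ((MorphismProperty.epimorphisms _).arrow_mk_iso_iff
      (Arrow.isoMk ((DerivedCategory.homologyFunctorFactors _ b).app _)
        ((DerivedCategory.homologyFunctorFactors _ b).app _)
        ((DerivedCategory.homologyFunctorFactors _ b).hom.naturality ψ).symm)).2 ‹_›
  rw [Functor.map_comp, Functor.map_comp]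
  infer_instance

/-- bounded above objects with constructible cohomology have free representatives, and conversely -/
theorem constructible_iff (K : EtModD.D Λ X) (n : ℤ) [K.IsLE n] :
    (∀ i : ℤ, EtModW.IsConstructible Λ (EtModD.HD K i)) ↔
      ∃ (C : CochainComplex (EtModW.Mod Λ X) ℤ) (c : ℤ), (∀ i : ℤ, c < i → IsZero (C.X i)) ∧
        (∀ i : ℤ, IsFree (C.X i)) ∧ Nonempty (DerivedCategory.Q.obj C ≅ K) := by
  constructor
  · intro h
    let G : CochainComplex (EtModW.Mod Λ X) ℤ := DerivedCategory.Q.objPreimage K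
    let e : DerivedCategory.Q.obj G ≅ K := DerivedCategory.Q.objObjPreimageIso K
    have hi : ∀ i, EtModD.HD K i ≅ G.homology i := fun i =>
      ((DerivedCategory.homologyFunctor _ i).mapIso e).symm ≪≫
        (DerivedCategory.homologyFunctorFactors _ i).app G
    obtain ⟨E, q, hE, hP, hq⟩ := exists_resolution (data (Λ := Λ) (X := X)) G
      (fun i => EtTrivGen.IsConstructible.ofIso (hi i) (h i)) n
      (fun i hn => (DerivedCategory.isZero_of_isLE K n i hn).of_iso (hi i).symm)
    haveI : IsIso (DerivedCategory.Q.map q) := inferInstance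
    exact ⟨E, n, hE, hP, ⟨asIso (DerivedCategory.Q.map q) ≪≫ e⟩⟩
  · rintro ⟨C, c, -, hC, ⟨e⟩⟩ i
    exact EtTrivGen.IsConstructible.ofIso
      (((DerivedCategory.homologyFunctorFactors _ i).app C).symm ≪≫ (DerivedCategory.homologyFunctor _ i).mapIso e)
      ((data (Λ := Λ) (X := X)).homology C (fun j => (hC j).isConstructible) i)

end Groth.Agent.EtConsShriek
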