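import Groth.Agent.EtFLC.PushFlc
import Groth.Agent.EtCons.FinShriek
import Groth.Agent.EtModShriek.Lift
import Groth.Agent.EtModShriek.Comp
import Groth.Agent.EtMV.Etale
import Groth.Agent.EtTrivGen.ConsMod

/-!
Direct images and extensions by zero along finite etale morphisms preserve locally constant sheaves of modules of
finite type.
-/

set_option autoImplicit false
set_option backward.isDefEq.respectTransparency false
set_option backward.isDefEq.respectTransparency.types false
set_option linter.style.haveILetI false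
set_option linter.unusedSectionVars false

universe u

open CategoryTheory CategoryTheory.Limits AlgebraicGeometry Opposite
open Groth.Agent.EtFLC

noncomputable section

namespace Groth.Agent.EtConsShriek

section Ab

variable {X Y : Scheme.{u}} (f : X ⟶ Y) {V : Y.Etale}

/-- Pushforward preserves constancy along a split family. -/
theorem isTriv_push' (F : EtCoh.Ab X) {ι : Type} [Finite ι] (a : ι → (V.left ⟶ X)) (ha : ∀ i, a i ≫ f = V.hom)
    [∀ i, AlgebraicGeometry.Etale (a i)]
    (hd : ∀ i j, i ≠ j → ∀ x y, (pieceMap f (a i) (ha i) (𝟙 V)).left x ≠ (pieceMap f (a j) (ha j) (𝟙 V)).left y)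
    (hc : ∀ p, ∃ i, p ∈ Set.range (pieceMap f (a i) (ha i) (𝟙 V)).left)
    (M : ι → Type (u + 1)) [∀ i, AddCommGroup (M i)] (σ : ∀ i, M i →+ EtCoh.sect F (piece (a i) (𝟙 V)))
    (hσ : ∀ i, IsTriv F (piece (a i) (𝟙 V)) (σ i)) :
    ∃ τ : (∀ i, M i) →+ EtCoh.sect ((EtCoh.push f).obj F) V, IsTriv ((EtCoh.push f).obj F) V τ ∧
      (∀ m i, res F (pieceMap f (a i) (ha i) (𝟙 V)) (τ m) = σ i (m i)) ∧
      ∀ s s' : EtCoh.sect F ((EtCoh.bc f).obj V),
        (∀ i, res F (pieceMap f (a i) (ha i) (𝟙 V)) s = res F (pieceMap f (a i) (ha i) (𝟙 V)) s') → s = s' := by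
  classical
  cases nonempty_fintype ι
  have hd' : ∀ {W : Y.Etale} (g : W ⟶ V) i j, i ≠ j → ∀ x y,
      (pieceMap f (a i) (ha i) g).left x ≠ (pieceMap f (a j) (ha j) g).left y := by
    intro W g i j hij x y h
    have hx : (pieceMap f (a i) (ha i) g).left x ∈ Set.range (pieceMap f (a i) (ha i) g).left := ⟨x, rfl⟩
    have hy : (pieceMap f (a i) (ha i) g).left x ∈ Set.range (pieceMap f (a j) (ha j) g).left := ⟨y, h.symm⟩
    rw [range_pieceMap] at hx hy
    obtain ⟨x', hx'⟩ := hx
    obtain ⟨y', hy'⟩ := hy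
    exact hd i j hij x' y' (hx'.trans hy'.symm)
  have hc' : ∀ {W : Y.Etale} (g : W ⟶ V) p, ∃ i, p ∈ Set.range (pieceMap f (a i) (ha i) g).left := by
    intro W g p
    obtain ⟨i, hi⟩ := hc (((EtCoh.bc f).map g).left p)
    exact ⟨i, by rw [range_pieceMap]; exact hi⟩
  have ext' : ∀ {W : Y.Etale} (g : W ⟶ V) (s t : EtCoh.sect F ((EtCoh.bc f).obj W)),
      (∀ i, res F (pieceMap f (a i) (ha i) g) s = res F (pieceMap f (a i) (ha i) g) t) → s = t := by
    intro W g s t h
    refine sect_ext F fun p => ?_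
    obtain ⟨i, x, hx⟩ := hc' g p
    exact ⟨_, _, x, hx, h i⟩
  let toV : ∀ {W : Y.Etale} (g : W ⟶ V) (i : ι), piece (a i) g ⟶ piece (a i) (𝟙 V) := fun g i =>
    toBase (a i) g
  have hex : ∀ m : ∀ i, M i, ∃ s : EtCoh.sect F ((EtCoh.bc f).obj V),
      ∀ i, res F (pieceMap f (a i) (ha i) (𝟙 V)) s = σ i (m i) := fun m => by
    obtain ⟨s, hs⟩ := Groth.Agent.EtIntegral.exists_amalg_disjoint F (ι := ULift.{u} ι)
      (fun i => piece (a i.down) (𝟙 V)) (fun i => pieceMap f (a i.down) (ha i.down) (𝟙 V))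
      (fun i j hij => hd i.down j.down fun h => hij (ULift.ext _ _ h))
      (fun p => (hc p).elim fun i hi => ⟨⟨i⟩, hi⟩) (fun i => σ i.down (m i.down))
    exact ⟨s, fun i => hs ⟨i⟩⟩
  choose t ht using hex
  let τ : (∀ i, M i) →+ EtCoh.sect ((EtCoh.push f).obj F) V :=
    AddMonoidHom.mk' t fun p q => ext' (𝟙 V) _ _ fun i => by rw [map_add, ht, ht, ht, Pi.add_apply, map_add]
  have hτ : ∀ {W : Y.Etale} (g : W ⟶ V) (m : ∀ i, M i) (i : ι),
      res F (pieceMap f (a i) (ha i) g) (res F ((EtCoh.bc f).map g) (t m)) = res F (toV g i) (σ i (m i)) := by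
    intro W g m i
    rw [res_res, ← ht m i, res_res, pieceMap_toBase]
  refine ⟨τ, ⟨fun {W} g s w => ?_, fun {W} g m hm w => funext fun i => ?_⟩, ht, ext' (𝟙 V)⟩
  · obtain ⟨W', k, w', hw', hP⟩ := exists_refine Finset.univ w
      (fun i W' k => ∃ m : M i, res F (pieceMap f (a i) (ha i) (k ≫ g)) (res F ((EtCoh.bc f).map k) s) =
        res F (toV (k ≫ g) i) (σ i m))
      (fun i W' k ⟨m, hm⟩ W'' l => ⟨m, by
        have h1 := congrArg (res F (pieceRes (a i) (k ≫ g) l)) hm
        rw [res_res, res_res, res_res] at h1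
        rw [res_res]
        refine (congrArg (fun φ => res F φ s) ?_).trans (h1.trans (congrArg (fun φ => res F φ (σ i m)) ?_))
        · rw [Functor.map_comp, ← Category.assoc]
          refine ((congrArg (· ≫ (EtCoh.bc f).map k) ?_).trans (Category.assoc _ _ _))
          exact pieceRes_map f (a i) (ha i) (k ≫ g) l
        · exact MorphismProperty.Over.Hom.ext (Category.assoc _ _ _).symm⟩)
      (fun i _ W' k v => by
        obtain ⟨H, l, h, m, hh, hm⟩ := (hσ i).surj (toV (k ≫ g) i)
          (res F (pieceMap f (a i) (ha i) (k ≫ g)) (res F ((EtCoh.bc f).map k) s)) v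
        haveI := Groth.Agent.EtSect.etale_left l
        haveI : Etale W'.hom := W'.prop
        haveI : Etale (l.left ≫ W'.hom) := by
          haveI : Etale (l.left : H.left ⟶ W'.left) := Groth.Agent.EtSect.etale_left l
          infer_instance
        let H' : Y.Etale := Scheme.Etale.mk (l.left ≫ W'.hom)
        let l' : H' ⟶ W' := MorphismProperty.Over.homMk l.left rfl
        have hl : (l.left : H.left ⟶ W'.left) ≫ (k ≫ g).left ≫ a i = H.hom := MorphismProperty.Over.w l
        let c : piece (a i) (l' ≫ k ≫ g) ⟶ H := MorphismProperty.Over.homMk (𝟙 H.left) (by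
          exact (Category.id_comp _).trans (hl.symm.trans (Category.assoc _ _ _).symm))
        refine ⟨H', l', h, hh, m, ?_⟩
        have h1 := congrArg (res F c) hm
        rw [res_res, res_res, res_res, res_res] at h1
        rw [res_res]
        refine (congrArg (fun φ => res F φ s) ?_).trans (h1.trans (congrArg (fun φ => res F φ (σ i m)) ?_))
        · have hbase : pieceMap f (a i) (ha i) (l' ≫ k ≫ g) ≫ (EtCoh.bc f).map l' =
              (c ≫ l) ≫ pieceMap f (a i) (ha i) (k ≫ g) := by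
            rw [pieceRes_map]
            exact congrArg (· ≫ pieceMap f (a i) (ha i) (k ≫ g))
              (MorphismProperty.Over.Hom.ext (Category.id_comp l.left).symm)
          rw [Functor.map_comp, ← Category.assoc]
          exact (congrArg (· ≫ (EtCoh.bc f).map k) hbase).trans (by simp only [Category.assoc])
        · exact MorphismProperty.Over.Hom.ext ((congrArg (· ≫ (k ≫ g).left) (Category.id_comp l.left)).trans rfl).symm)
    choose m hm using fun i => hP i (Finset.mem_univ i)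
    refine ⟨W', k, w', m, hw', ext' (k ≫ g) _ _ fun i => ?_⟩
    exact (hm i).trans (hτ (k ≫ g) m i).symm
  · refine (hσ i).inj (toV g i) (m i) ?_ w
    rw [← hτ]
    exact (congrArg (res F _) hm).trans (map_zero _)

end Ab

variable {Λ : Type (u + 1)} [CommRing Λ] {X Y : Scheme.{u}}

/-- underlying abelian trivialisation -/
theorem isTriv_of_isTrivG {F : EtModW.Mod Λ X} {U : X.Etale} {M : Type (u + 1)} [AddCommGroup M] [Module Λ M]
    {σ : M →ₗ[Λ] F.obj.obj (op U)} (h : EtTrivGen.IsTrivG F U (fun m => σ m)) :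
    IsTriv ((EtModD.forgetToAb Λ X).obj F) U σ.toAddMonoidHom where
  surj g s v := by
    obtain ⟨W, k, m, ⟨w, hw⟩, hm⟩ := h.surj g s v
    exact ⟨W, k, w, m, hw, hm⟩
  inj g m hm v := h.inj g m 0 (hm.trans (((F.obj.map g.op).hom.map_zero).symm.trans
    (congrArg (F.obj.map g.op).hom σ.map_zero.symm))) v

theorem isTrivG_of_isTriv {F : EtModW.Mod Λ X} {U : X.Etale} {M : Type (u + 1)} [AddCommGroup M] [Module Λ M]
    {σ : M →ₗ[Λ] F.obj.obj (op U)} (h : IsTriv ((EtModD.forgetToAb Λ X).obj F) U σ.toAddMonoidHom) :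
    EtTrivGen.IsTrivG F U (fun m => σ m) where
  surj g s v := by
    obtain ⟨W, k, w, m, hw, hm⟩ := h.surj g s v
    exact ⟨W, k, m, ⟨w, hw⟩, hm⟩
  inj g m m' hm v := by
    refine sub_eq_zero.1 (h.inj g (m - m') ?_ v)
    show (F.obj.map g.op).hom (σ (m - m')) = 0
    rw [map_sub, map_sub, sub_eq_zero]
    exact hm

variable (f : X ⟶ Y) [IsFinite f] [AlgebraicGeometry.Etale f]

/-- **direct images along finite etale morphisms preserve `FT` local constancy** -/
theorem isFTLocConst_push {F : EtModW.Mod Λ X} (h : EtModW.IsFTLocConst Λ F) :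
    EtModW.IsFTLocConst Λ ((EtModW.push Λ f).obj F) := by
  classical
  obtain ⟨κ, U, hU, hM⟩ := h
  have key : ∀ y : Y, ∃ (V : Y.Etale), (∃ v : V.left, V.hom v = y) ∧ ∃ (N : Type (u + 1)) (_ : AddCommGroup N)
      (_ : Module Λ N) (_ : Module.Finite Λ N), Nonempty (EtModW.restr Λ ((EtModW.push Λ f).obj F) V ≅
        (constantSheaf (Y.smallEtaleTopology.over V) (ModuleCat.{u + 1} Λ)).obj (ModuleCat.of Λ N)) := by
    intro y
    obtain ⟨V₀, v₀, n, e, hv₀, he⟩ := exists_split_nhd f y
    let a₀ : Fin n → (V₀.left ⟶ X) := fun i => Sigma.ι (fun _ : Fin n => V₀.left) i ≫ e.inv ≫ pullback.snd V₀.hom f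
    have ha₀ : ∀ i, a₀ i ≫ f = V₀.hom := fun i => by
      have h1 := congrArg (· ≫ V₀.hom) (he i)
      simp only [Category.assoc, Category.id_comp] at h1
      simp only [a₀, Category.assoc, ← pullback.condition]
      exact h1
    haveI : ∀ i, AlgebraicGeometry.Etale (a₀ i) := fun i => by
      haveI : AlgebraicGeometry.Etale (a₀ i ≫ f) := by rw [ha₀]; exact V₀.prop
      exact MorphismProperty.of_postcomp @AlgebraicGeometry.Etale (a₀ i) f ‹Etale f› ‹_›
    have hpm : ∀ i, (pieceMap f (a₀ i) (ha₀ i) (𝟙 V₀)).left = Sigma.ι (fun _ : Fin n => V₀.left) i ≫ e.inv := fun i =>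
      pullback.hom_ext ((pieceMap_fst f (a₀ i) (ha₀ i) _).trans (by rw [Category.assoc]; exact (he i).symm))
        ((pieceMap_snd f (a₀ i) (ha₀ i) _).trans ((Category.id_comp _).trans (Category.assoc _ _ _).symm))
    have hd : ∀ i j, i ≠ j → ∀ x y, (pieceMap f (a₀ i) (ha₀ i) (𝟙 V₀)).left x ≠
        (pieceMap f (a₀ j) (ha₀ j) (𝟙 V₀)).left y := fun i j hij x y hxy => by
      rw [hpm, hpm] at hxy
      exact hij (congrArg Sigma.fst ((AlgebraicGeometry.sigmaι_eq_iff (fun _ : Fin n => V₀.left) i j x y).1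
        (e.inv.homeomorph.injective hxy)))
    have hc : ∀ p, ∃ i, p ∈ Set.range (pieceMap f (a₀ i) (ha₀ i) (𝟙 V₀)).left := fun p => by
      obtain ⟨q, hq⟩ := e.inv.homeomorph.surjective p
      obtain ⟨i, x, hx⟩ := (AlgebraicGeometry.sigmaOpenCover (fun _ : Fin n => V₀.left)).exists_eq q
      exact ⟨i, x, ((congrArg (fun m => m.base x) (hpm i)).trans (congrArg e.inv.base hx)).trans hq⟩
    obtain ⟨V, g, v, hv, hP⟩ := exists_refine (Finset.univ : Finset (Fin n)) v₀
      (fun i V g => ∃ (M : Type (u + 1)) (_ : AddCommGroup M) (_ : Module Λ M) (_ : Module.Finite Λ M)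
        (σ : M →ₗ[Λ] F.obj.obj (op (piece (a₀ i) g))), EtTrivGen.IsTrivG F (piece (a₀ i) g) (fun m => σ m))
      (fun i V g ⟨M, _, _, _, σ, hσ⟩ W k => ⟨M, inferInstance, inferInstance, inferInstance, _,
        EtTrivGen.IsTrivG.rsComap hσ (pieceRes (a₀ i) g k)⟩)
      (fun i _ W g w => by
        haveI := Groth.Agent.EtSect.etale_left g
        obtain ⟨k, u₁, hu⟩ := hU ((piece (a₀ i) g).hom w)
        obtain ⟨M, _, _, _, ⟨φ⟩⟩ := hM k
        obtain ⟨σ, hσ⟩ := EtTrivGen.exists_triv φ
        obtain ⟨H, g₁, g₂, z, hg₁, -⟩ := exists_common (U₁ := piece (a₀ i) g) w u₁ hu.symm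
        haveI : AlgebraicGeometry.Etale (g₁.left : H.left ⟶ W.left) := Groth.Agent.EtSect.etale_left g₁
        haveI : AlgebraicGeometry.Etale W.hom := W.prop
        haveI : AlgebraicGeometry.Etale ((g₁.left : H.left ⟶ W.left) ≫ W.hom) := inferInstance
        let H' : Y.Etale := Scheme.Etale.mk ((g₁.left : H.left ⟶ W.left) ≫ W.hom)
        let l : H' ⟶ W := MorphismProperty.Over.homMk g₁.left rfl
        have hl : (g₁.left : H.left ⟶ W.left) ≫ g.left ≫ a₀ i = H.hom := MorphismProperty.Over.w g₁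
        let c : piece (a₀ i) (l ≫ g) ⟶ H := MorphismProperty.Over.homMk (𝟙 H.left)
          ((Category.id_comp _).trans (hl.symm.trans (Category.assoc _ _ _).symm))
        exact ⟨H', l, z, hg₁, M, inferInstance, inferInstance, inferInstance, _,
          EtTrivGen.IsTrivG.rsComap (σ := σ.hom) hσ (c ≫ g₂)⟩)
    choose M hMg hMm hMf σ hσ using fun i => hP i (Finset.mem_univ i)
    let a : Fin n → (V.left ⟶ X) := fun i => g.left ≫ a₀ i
    haveI := Groth.Agent.EtSect.etale_left g
    have ha : ∀ i, a i ≫ f = V.hom := fun i => by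
      simp only [a, Category.assoc, ha₀]; exact MorphismProperty.Over.w g
    let c : ∀ i, piece (a i) (𝟙 V) ⟶ piece (a₀ i) g := fun i =>
      MorphismProperty.Over.homMk (𝟙 V.left) rfl
    have hq : ∀ i, (pieceMap f (a i) (ha i) (𝟙 V)).left = (pieceMap f (a₀ i) (ha₀ i) g).left := fun i =>
      pullback.hom_ext ((pieceMap_fst f _ (ha i) _).trans (pieceMap_fst f _ (ha₀ i) g).symm)
        ((pieceMap_snd f _ (ha i) _).trans ((Category.id_comp _).trans (pieceMap_snd f _ (ha₀ i) g).symm))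
    let σ' : ∀ i, M i →ₗ[Λ] F.obj.obj (op (piece (a i) (𝟙 V))) := fun i => (EtTrivGen.rs F (c i)).comp (σ i)
    obtain ⟨τ, hτ, hform, hext⟩ := isTriv_push' f ((EtModD.forgetToAb Λ X).obj F) a ha
      (fun i j hij x y hxy => by
        rw [hq, hq] at hxy
        have hx : (pieceMap f (a₀ i) (ha₀ i) g).left x ∈ Set.range (pieceMap f (a₀ i) (ha₀ i) g).left := ⟨x, rfl⟩
        have hy : (pieceMap f (a₀ i) (ha₀ i) g).left x ∈ Set.range (pieceMap f (a₀ j) (ha₀ j) g).left :=
          ⟨y, hxy.symm⟩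
        rw [range_pieceMap] at hx hy
        obtain ⟨x', hx'⟩ := hx
        obtain ⟨y', hy'⟩ := hy
        exact hd i j hij x' y' (hx'.trans hy'.symm))
      (fun p => by
        obtain ⟨i, hi⟩ := hc (((EtCoh.bc f).map g).left p)
        exact ⟨i, by rw [hq]; exact (Set.ext_iff.1 (range_pieceMap f (a₀ i) (ha₀ i) g) p).2 hi⟩)
      M (fun i => (σ' i).toAddMonoidHom)
      (fun i => isTriv_of_isTrivG (EtTrivGen.IsTrivG.rsComap (hσ i) (c i)))
    let τ' : (∀ i, M i) →ₗ[Λ] ((EtModW.push Λ f).obj F).obj.obj (op V) :=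
      { toFun := fun m => τ m
        map_add' := fun p q => τ.map_add p q
        map_smul' := fun r m => hext _ _ fun i => (hform (r • m) i).trans (((σ' i).map_smul r (m i)).trans
          (((congrArg (fun z : (F.obj.obj (op (piece (a i) (𝟙 V))) : Type (u + 1)) => r • z) (hform m i)).symm).trans
            ((EtTrivGen.rs F (pieceMap f (a i) (ha i) (𝟙 V))).map_smul r (τ m)).symm)) }
    refine ⟨V, ⟨v, ?_⟩, ∀ i, M i, inferInstance, inferInstance, inferInstance,
      EtTrivGen.nonempty_iso (σ := ModuleCat.ofHom τ')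
        (isTrivG_of_isTriv (F := (EtModW.push Λ f).obj F) (σ := τ') hτ)⟩
    rw [← hv₀, ← hv, hom_comp_left]
  choose V hV hN using key
  exact ⟨Y, V, fun y => ⟨y, hV y⟩, hN⟩

/-- extension by zero along a finite etale morphism is the direct image -/
theorem nonempty_extZeroMod_iso_push [EtShriek.JCont f] :
    Nonempty (EtSix.extZeroMod Λ f ≅ EtModW.push Λ f) := by
  haveI : ∀ G : EtCoh.Ab X, IsIso ((EtShriekStalk.toPush f).app G) := EtCons.isIso_toPush f
  haveI : IsIso (EtShriekStalk.toPush f) := NatIso.isIso_of_isIso_app _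
  let e : EtShriek.extZero f ≅ EtCoh.push f := asIso (EtShriekStalk.toPush f)
  exact ⟨EtModShriek.liftIso (EtModShriek.isLin_extZero f) (EtModShriek.isLin_push f)
    ((EtModAcyc.extZeroForgetIso Λ f).symm ≪≫ Functor.isoWhiskerLeft _ e)⟩

/-- **extensions by zero along finite etale morphisms preserve `FT` local constancy** -/
theorem isFTLocConst_extZeroMod [EtShriek.JCont f] {F : EtModW.Mod Λ X} (h : EtModW.IsFTLocConst Λ F) :
    EtModW.IsFTLocConst Λ ((EtSix.extZeroMod Λ f).obj F) := by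
  obtain ⟨e⟩ := nonempty_extZeroMod_iso_push (Λ := Λ) f
  exact EtTrivGen.IsFTLocConst.ofIso (e.app F).symm (isFTLocConst_push f h)

end Groth.Agent.EtConsShriek
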