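import Groth.Agent.EtConsShriek.RHomVanish
import Mathlib.CategoryTheory.Abelian.Injective.Extend
import Mathlib.CategoryTheory.Abelian.RightDerived
import Mathlib.Algebra.Homology.Embedding.CochainComplex

/-!
Quasi-injective sheaves of `Λ`-modules: local Ext sheaves and maps out of tensor products.
-/

set_option autoImplicit false
set_option backward.isDefEq.respectTransparency false
set_option backward.isDefEq.respectTransparency.types false
set_option linter.style.haveILetI false
set_option linter.unusedSectionVars false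

universe u w v

open CategoryTheory CategoryTheory.Limits AlgebraicGeometry MonoidalCategory HomologicalComplex Pretriangulated

attribute [local instance] HasDerivedCategory.standard preservesBinaryBiproducts_of_preservesBinaryCoproducts

noncomputable section

namespace Groth.Agent.EtConsShriek

section Generic

variable {C : Type w} [Category.{v} C] [Abelian C]

/-- exactness tested after covers -/
theorem exact_iff_covers (𝒢 : C → Prop) (hcov : ∀ M : C, ∃ (G : C) (p : G ⟶ M), Epi p ∧ 𝒢 G) (S : ShortComplex C) :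
    S.Exact ↔ ∀ G : C, 𝒢 G → ∀ φ : G ⟶ S.X₂, φ ≫ S.g = 0 →
      ∃ (G' : C) (p : G' ⟶ G), Epi p ∧ 𝒢 G' ∧ ∃ t : G' ⟶ S.X₁, p ≫ φ = t ≫ S.f := by
  rw [S.exact_iff_exact_up_to_refinements]
  constructor
  · intro h G hG φ hφ
    obtain ⟨P, p₀, hp₀, t, ht⟩ := h φ hφ
    obtain ⟨G', q, hq, hG'⟩ := hcov P
    haveI := hp₀
    haveI := hq
    exact ⟨G', q ≫ p₀, epi_comp q p₀, hG', q ≫ t, by rw [Category.assoc, Category.assoc, ht]⟩
  · intro h A φ hφ
    obtain ⟨G, π, hπ, hG⟩ := hcov A
    obtain ⟨G', p, hp, -, t, ht⟩ := h G hG (π ≫ φ) (by rw [Category.assoc, hφ, comp_zero])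
    haveI := hπ
    haveI := hp
    exact ⟨G', p ≫ π, epi_comp p π, t, by rw [Category.assoc, ht]⟩

theorem exists_map_of_cocycle {M : C} (R : CochainComplex C ℤ) (n : ℤ) (φ : M ⟶ R.X n)
    (hφ : φ ≫ R.d n (n + 1) = 0) :
    ∃ g : (sg n).obj M ⟶ R, (singleObjXSelf (ComplexShape.up ℤ) n M).inv ≫ g.f n = φ := by
  refine ⟨mkHomFromSingle φ (fun b hb => by
    obtain rfl : n + 1 = b := hb
    exact hφ), ?_⟩
  rw [mkHomFromSingle_f, Iso.inv_hom_id_assoc]

theorem cocycle_of_map {M : C} {R : CochainComplex C ℤ} {n : ℤ} (g : (sg n).obj M ⟶ R) :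
    ((singleObjXSelf (ComplexShape.up ℤ) n M).inv ≫ g.f n) ≫ R.d n (n + 1) = 0 := by
  rw [Category.assoc, g.comm n (n + 1), single_obj_d, zero_comp, comp_zero]

/-- a map of complexes from a single object into a K-injective complex vanishes in `D` iff its cocycle bounds -/
theorem Q_map_single_eq_zero_iff {M : C} (R : CochainComplex C ℤ) [R.IsKInjective] (n : ℤ)
    (g : (sg n).obj M ⟶ R) :
    DerivedCategory.Q.map g = 0 ↔
      ∃ t : M ⟶ R.X (n - 1), (singleObjXSelf (ComplexShape.up ℤ) n M).inv ≫ g.f n = t ≫ R.d (n - 1) n := by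
  have hrel : (ComplexShape.up ℤ).Rel (n - 1) n := by simp
  constructor
  · intro h
    obtain ⟨H'⟩ := KInj.nonempty_homotopy_of_Q_map_eq (h.trans (Functor.map_zero DerivedCategory.Q _ _).symm)
    let H : Homotopy g 0 := (Homotopy.ofEq (sub_zero _).symm).trans H'
    refine ⟨(singleObjXSelf (ComplexShape.up ℤ) n M).inv ≫ H.hom n (n - 1), ?_⟩
    have hc := H.comm n
    rw [HomologicalComplex.zero_f, add_zero, dNext_eq H.hom (show (ComplexShape.up ℤ).Rel n (n + 1) from rfl),
      single_obj_d, zero_comp, zero_add, prevD_eq H.hom hrel] at hc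
    rw [hc, Category.assoc]
  · rintro ⟨t, ht⟩
    rw [← Functor.map_zero DerivedCategory.Q]
    refine DerivedCategory.Q_map_eq_of_homotopy _ ?_
    let hom : ∀ a b : ℤ, ((sg n).obj M).X a ⟶ R.X b := fun a b =>
      if h : a = n ∧ b = n - 1 then
        (singleObjXIsoOfEq (ComplexShape.up ℤ) n M a h.1).hom ≫ t ≫ eqToHom (congrArg R.X h.2.symm)
      else 0
    refine (Homotopy.ofEq ?_).trans (Homotopy.nullHomotopy hom fun a b hab => dif_neg fun h => hab (by
      rw [h.1, h.2]; exact hrel))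
    refine from_single_hom_ext ?_
    rw [Homotopy.nullHomotopicMap_f hrel (show (ComplexShape.up ℤ).Rel n (n + 1) from rfl) hom, single_obj_d,
      zero_comp, zero_add]
    have hh : hom n (n - 1) = (singleObjXSelf (ComplexShape.up ℤ) n M).hom ≫ t := by
      rw [show hom n (n - 1) = _ from dif_pos ⟨rfl, rfl⟩, eqToHom_refl, Category.comp_id]
      rfl
    rw [hh, Category.assoc]
    exact (Iso.inv_comp_eq _).1 ht

variable {B : C ⥤ C ⥤ C} [B.Additive] [∀ X, (B.obj X).Additive]

/-- **maps out of tensor products into a K-injective complex through an internal Hom** -/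
theorem killedSingle_iff_exactAt (hcov : ∀ M : C, ∃ (G : C) (p : G ⟶ M), Epi p ∧ KFlat.FlatObj B G)
    (H : C) {S : C ⥤ C} [S.Additive] (adj : B.flip.obj H ⊣ S) (R : CochainComplex C ℤ) [R.IsKInjective] (n : ℤ) :
    KilledSingle (B := B) (DerivedCategory.Q.obj R) H n ↔
      ((S.mapHomologicalComplex (ComplexShape.up ℤ)).obj R).ExactAt n := by
  rw [exactAt_iff' _ (n - 1) n (n + 1) (by simp) (by simp), exact_iff_covers (KFlat.FlatObj B) hcov]
  constructor
  · intro h G hG φ hφ
    obtain ⟨g, hg⟩ := exists_map_of_cocycle R n ((adj.homEquiv G (R.X n)).symm φ) (by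
      rw [← adj.homEquiv_naturality_right_symm]
      exact (congrArg (adj.homEquiv G (R.X (n + 1))).symm hφ).trans
        ((adj.homEquiv_counit _ _ _).trans (by rw [Functor.map_zero, zero_comp])))
    obtain ⟨G', p, hp, hG', hy⟩ := h G hG (DerivedCategory.Q.map g)
    rw [← Functor.map_comp] at hy
    obtain ⟨t, ht⟩ := (Q_map_single_eq_zero_iff R n _).1 hy
    refine ⟨G', p, hp, hG', adj.homEquiv G' (R.X (n - 1)) t, ?_⟩
    refine (adj.homEquiv G' (R.X n)).symm.injective ?_
    change (adj.homEquiv G' (R.X n)).symm (p ≫ φ) =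
      (adj.homEquiv G' (R.X n)).symm (adj.homEquiv G' (R.X (n - 1)) t ≫ S.map (R.d (n - 1) n))
    rw [adj.homEquiv_naturality_left_symm, adj.homEquiv_naturality_right_symm, Equiv.symm_apply_apply, ← ht, ← hg,
      HomologicalComplex.comp_f, single_map_f_self]
    simp only [Category.assoc, Iso.inv_hom_id_assoc]
    rfl
  · intro h G hG y
    obtain ⟨g, rfl⟩ := KInj.Q_map_surjective y
    let φ := adj.homEquiv G (R.X n) ((singleObjXSelf (ComplexShape.up ℤ) n _).inv ≫ g.f n)
    obtain ⟨G', p, hp, hG', t, ht⟩ := h G hG φ (by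
      change φ ≫ S.map (R.d n (n + 1)) = 0
      rw [← adj.homEquiv_naturality_right, cocycle_of_map, adj.homEquiv_unit, Functor.map_zero, comp_zero])
    refine ⟨G', p, hp, hG', ?_⟩
    rw [← Functor.map_comp, Q_map_single_eq_zero_iff]
    refine ⟨(adj.homEquiv G' (R.X (n - 1))).symm t, ?_⟩
    have ht' := congrArg (adj.homEquiv G' (R.X n)).symm ht
    change (adj.homEquiv G' (R.X n)).symm (p ≫ φ) =
      (adj.homEquiv G' (R.X n)).symm (t ≫ S.map (R.d (n - 1) n)) at ht'
    rw [adj.homEquiv_naturality_left_symm, adj.homEquiv_naturality_right_symm, Equiv.symm_apply_apply] at ht'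
    rw [HomologicalComplex.comp_f, single_map_f_self, ← ht']
    simp only [Category.assoc, Iso.inv_hom_id_assoc]
    rfl

/-- invariance in the target -/
theorem killedSingle_congr {K K' : DerivedCategory C} (e : K ≅ K') (H : C) (n : ℤ)
    (h : KilledSingle (B := B) K H n) : KilledSingle (B := B) K' H n := fun G hG y => by
  obtain ⟨G', p, hp, hG', hy⟩ := h G hG (y ≫ e.inv)
  rw [← Category.assoc] at hy
  exact ⟨G', p, hp, hG', (cancel_mono e.inv).1 (hy.trans zero_comp.symm)⟩

theorem killedSingle_of_isZero {K : DerivedCategory C} (hK : IsZero K) (H : C) (n : ℤ) :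
    KilledSingle (B := B) K H n := fun G hG y =>
  ⟨G, 𝟙 G, inferInstance, hG, hK.eq_of_tgt _ _⟩

/-- dévissage in the target: middle term -/
theorem killedSingle₂ (T : Pretriangulated.Triangle (DerivedCategory C)) (hT : T ∈ distTriang _) (H : C) (n : ℤ)
    (h₁ : KilledSingle (B := B) T.obj₁ H n) (h₃ : KilledSingle (B := B) T.obj₃ H n) :
    KilledSingle (B := B) T.obj₂ H n := fun G hG y => by
  obtain ⟨G', p, hp, hG', hy⟩ := h₃ G hG (y ≫ T.mor₂)
  rw [← Category.assoc] at hy
  obtain ⟨z, hz⟩ := Triangle.coyoneda_exact₂ T hT _ hy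
  obtain ⟨G'', p', hp', hG'', hz'⟩ := h₁ G' hG' z
  haveI := hp
  haveI := hp'
  refine ⟨G'', p' ≫ p, epi_comp p' p, hG'', ?_⟩
  rw [B.map_comp, NatTrans.comp_app, Functor.map_comp, Functor.map_comp, Category.assoc, hz, reassoc_of% hz',
    zero_comp]

/-- dévissage in the target: first term -/
theorem killedSingle₁ (T : Pretriangulated.Triangle (DerivedCategory C)) (hT : T ∈ distTriang _) (H : C) (n : ℤ)
    (h₂ : KilledSingle (B := B) T.obj₂ H n) (h₃ : KilledSingle (B := B) (T.obj₃⟦(-1 : ℤ)⟧) H n) :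
    KilledSingle (B := B) T.obj₁ H n :=
  killedSingle₂ T.invRotate (inv_rot_of_distTriang _ hT) H n h₃ h₂

/-- splitting off the top term of a complex -/
theorem exists_split_top (I : CochainComplex C ℤ) (b : ℤ) [I.IsStrictlyLE b] :
    ∃ (S : ShortComplex (CochainComplex C ℤ)) (_ : S.ShortExact), S.X₁ = (sg b).obj (I.X b) ∧ S.X₂ = I ∧
      IsZero (S.X₃.X b) ∧ ∀ n, n ≠ b → Nonempty (S.X₃.X n ≅ I.X n) := by
  let f : (sg b).obj (I.X b) ⟶ I := mkHomFromSingle (𝟙 _) (fun c hc => by
    obtain rfl : b + 1 = c := hc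
    exact (I.isZero_of_isStrictlyLE b (b + 1) (by omega)).eq_of_tgt _ _)
  have hfb : IsIso (f.f b) := by
    rw [mkHomFromSingle_f, Category.comp_id]
    infer_instance
  haveI : ∀ n, Mono (f.f n) := fun n => by
    by_cases h : n = b
    · subst h
      infer_instance
    · exact ⟨fun _ _ _ => (isZero_single_obj_X (ComplexShape.up ℤ) b _ n h).eq_of_tgt _ _⟩
  haveI : Mono f := HomologicalComplex.mono_of_mono_f f inferInstance
  let S := ShortComplex.mk f (cokernel.π f) (cokernel.condition f)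
  have hS : S.ShortExact := { exact := ShortComplex.exact_cokernel f }
  refine ⟨S, hS, rfl, rfl, ?_, fun n hn => ?_⟩
  · haveI := hfb
    exact (isZero_cokernel_of_epi (f.f b)).of_iso (PreservesCokernel.iso (eval C (ComplexShape.up ℤ) b) f)
  · have hz : IsZero (((sg b).obj (I.X b)).X n) := isZero_single_obj_X (ComplexShape.up ℤ) b _ n hn
    exact ⟨PreservesCokernel.iso (eval C (ComplexShape.up ℤ) n) f ≪≫
      cokernelIsoOfEq (hz.eq_of_src (f.f n) 0) ≪≫ cokernelZeroIsoTarget⟩

/-- a complex with terms in degrees `[lo, b]` inherits vanishing from its terms -/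
theorem killedSingle_of_terms (P : C → Prop) (hP : ∀ {M M' : C}, (M ≅ M') → P M → P M') (H : C) (m : ℤ)
    (hterm : ∀ (J : C) (p : ℤ), P J → p < m → KilledSingle (B := B) (DerivedCategory.Q.obj ((sg p).obj J)) H m) :
    ∀ (d : ℕ) (I : CochainComplex C ℤ) (b : ℤ), b < m → I.IsStrictlyLE b → I.IsStrictlyGE (b + 1 - d) →
      (∀ n, b + 1 - d ≤ n → n ≤ b → P (I.X n)) →
      KilledSingle (B := B) (DerivedCategory.Q.obj I) H m := by
  intro d
  induction d with
  | zero =>
    intro I b _ hle hge _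
    refine killedSingle_of_isZero ?_ H m
    refine Functor.map_isZero DerivedCategory.Q ((IsZero.iff_id_eq_zero _).2 ?_)
    ext n
    by_cases h : n ≤ b
    · exact (I.isZero_of_isStrictlyGE (b + 1 - (0 : ℕ)) n (by push_cast; omega)).eq_of_src _ _
    · exact (I.isZero_of_isStrictlyLE b n (by omega)).eq_of_src _ _
  | succ d ih =>
    intro I b hb hle hge hP'
    haveI := hle
    haveI := hge
    obtain ⟨S, hS, h1, h2, h3, h4⟩ := exists_split_top I b
    subst h2
    have key := killedSingle₂ (B := B) _ (DerivedCategory.triangleOfSES_distinguished hS) H m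
    refine key ?_ ?_
    · change KilledSingle (B := B) (DerivedCategory.Q.obj S.X₁) H m
      rw [h1]
      exact hterm _ b (hP' b (by push_cast; omega) le_rfl) hb
    · refine ih S.X₃ (b - 1) (by omega) ?_ ?_ fun n hn hn' => ?_
      · rw [CochainComplex.isStrictlyLE_iff]
        intro n hn
        by_cases h : n = b
        · exact h ▸ h3
        · exact (S.X₂.isZero_of_isStrictlyLE b n (by omega)).of_iso (h4 n h).some
      · rw [CochainComplex.isStrictlyGE_iff]
        intro n hn
        exact (S.X₂.isZero_of_isStrictlyGE (b + 1 - (d + 1 : ℕ)) n (by push_cast; omega)).of_iso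
          (h4 n (by omega)).some
      · exact hP (h4 n (by omega)).some.symm (hP' n (by push_cast; omega) (by omega))

/-- `J[-p]` through an injective resolution of `J` -/
theorem killedSingle_sg_iff [EnoughInjectives C]
    (hcov : ∀ M : C, ∃ (G : C) (p : G ⟶ M), Epi p ∧ KFlat.FlatObj B G)
    (H : C) {S : C ⥤ C} [S.Additive] (adj : B.flip.obj H ⊣ S) (J : C) (p m : ℤ) (q : ℕ) (hq : 0 < q)
    (h : (q : ℤ) = m - p) :
    KilledSingle (B := B) (DerivedCategory.Q.obj ((sg p).obj J)) H m ↔ IsZero ((S.rightDerived q).obj J) := by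
  let R := InjectiveResolution.of J
  haveI : R.cochainComplex.IsKInjective := CochainComplex.isKInjective_of_injective _ 0
  let R' := R.cochainComplex⟦-p⟧
  haveI : R'.IsStrictlyGE p := CochainComplex.isStrictlyGE_shift R.cochainComplex 0 (-p) p (by simp)
  haveI : ∀ k, Injective (R'.X k) := fun k => inferInstanceAs (Injective (R.cochainComplex.X (k + -p)))
  haveI : R'.IsKInjective := CochainComplex.isKInjective_of_injective _ p
  let f : (sg p).obj J ⟶ R' :=
    ((CochainComplex.singleFunctors C).shiftIso (-p) p 0 (by simp)).inv.app J ≫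
      (CategoryTheory.shiftFunctor (CochainComplex C ℤ) (-p)).map R.ι'
  haveI : QuasiIso f := inferInstance
  let e : DerivedCategory.Q.obj ((sg p).obj J) ≅ DerivedCategory.Q.obj R' := asIso (DerivedCategory.Q.map f)
  have h1 : KilledSingle (B := B) (DerivedCategory.Q.obj ((sg p).obj J)) H m ↔
      ((S.mapHomologicalComplex (ComplexShape.up ℤ)).obj R').ExactAt m :=
    ⟨fun k => (killedSingle_iff_exactAt hcov H adj R' m).1 (killedSingle_congr e H m k),
      fun k => killedSingle_congr e.symm H m ((killedSingle_iff_exactAt hcov H adj R' m).2 k)⟩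
  rw [h1]
  obtain ⟨q, rfl⟩ : ∃ k, q = k + 1 := ⟨q - 1, by omega⟩
  let SR := (S.mapHomologicalComplex (ComplexShape.up ℤ)).obj R.cochainComplex
  have h2 : ((S.mapHomologicalComplex (ComplexShape.up ℤ)).obj R').ExactAt m ↔ SR.ExactAt (m + -p) := by
    rw [exactAt_iff_isZero_homology, exactAt_iff_isZero_homology]
    let ei : ((S.mapHomologicalComplex (ComplexShape.up ℤ)).obj R').homology m ≅ SR.homology (m + -p) :=
      (HomologicalComplex.homologyFunctor C _ m).mapIso
          ((Functor.commShiftIso (S.mapHomologicalComplex (ComplexShape.up ℤ)) (-p)).app R.cochainComplex) ≪≫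
        ((HomologicalComplex.homologyFunctor C (ComplexShape.up ℤ) 0).shiftIso (-p) m (m + -p) (by omega)).app SR
    exact ⟨fun k => k.of_iso ei.symm, fun k => k.of_iso ei⟩
  have h3 : IsZero ((S.rightDerived (q + 1)).obj J) ↔
      ((S.mapHomologicalComplex (ComplexShape.up ℕ)).obj R.cocomplex).ExactAt (q + 1) := by
    rw [exactAt_iff_isZero_homology]
    exact ⟨fun k => k.of_iso (R.isoRightDerivedObj S (q + 1)).symm, fun k => k.of_iso (R.isoRightDerivedObj S (q + 1))⟩
  have hm : m + -p = (q : ℤ) + 1 := by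
    push_cast at h
    omega
  rw [h2, h3, hm, exactAt_iff' SR (q : ℤ) ((q : ℤ) + 1) ((q : ℤ) + 2)
      ((CochainComplex.prev ℤ _).trans (add_sub_cancel_right _ _))
      ((CochainComplex.next ℤ _).trans (by omega)),
    exactAt_iff' _ q (q + 1) (q + 2) (by simp) (by simp)]
  refine ShortComplex.exact_iff_of_iso ?_
  refine ShortComplex.isoMk (S.mapIso (R.cochainComplexXIso q q rfl))
    (S.mapIso (R.cochainComplexXIso ((q : ℤ) + 1) (q + 1) (by simp)))
    (S.mapIso (R.cochainComplexXIso ((q : ℤ) + 2) (q + 2) (by simp))) ?_ ?_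
  · change S.map _ ≫ S.map _ = S.map _ ≫ S.map _
    rw [← S.map_comp, ← S.map_comp, R.cochainComplex_d q ((q : ℤ) + 1) q (q + 1) rfl (by simp), Category.assoc,
      Category.assoc, Iso.inv_hom_id, Category.comp_id]
  · change S.map _ ≫ S.map _ = S.map _ ≫ S.map _
    rw [← S.map_comp, ← S.map_comp, R.cochainComplex_d ((q : ℤ) + 1) ((q : ℤ) + 2) (q + 1) (q + 2) (by simp) (by simp),
      Category.assoc, Category.assoc, Iso.inv_hom_id, Category.comp_id]

/-- **complexes of quasi-injective objects and vanishing of `RHom`** -/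
theorem exists_quasiInj_iff [IsGrothendieckAbelian.{v} C] [EnoughInjectives C]
    (hcov : ∀ M : C, ∃ (G : C) (p : G ⟶ M), Epi p ∧ KFlat.FlatObj B G)
    (𝒦 : C → Prop) (S : C → C ⥤ C) (hS : ∀ H, (S H).Additive) (adj : ∀ H, B.flip.obj H ⊣ S H)
    (N : ℤ) (K : DerivedCategory C) (a : ℤ) [K.IsGE a]
    (hN : ∀ i, N < i → (∀ H, 𝒦 H → KilledSingle (B := B) K H i) →
      IsZero ((DerivedCategory.homologyFunctor C i).obj K)) :
    (∃ (I : CochainComplex C ℤ) (lo : ℤ), (∀ i : ℤ, i < lo ∨ N < i → IsZero (I.X i)) ∧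
      (∀ (i : ℤ) (H : C), 𝒦 H → ∀ q : ℕ, 0 < q →
        IsZero ((haveI := hS H; (S H).rightDerived q).obj (I.X i))) ∧
      Nonempty (DerivedCategory.Q.obj I ≅ K)) ↔
    ∀ H : C, 𝒦 H → ∀ i : ℤ, N < i → KilledSingle (B := B) K H i := by
  haveI := hS
  have hterm : ∀ (H : C) (J : C) (p m : ℤ), p < m →
      (∀ q : ℕ, 0 < q → IsZero (((S H).rightDerived q).obj J)) →
      KilledSingle (B := B) (DerivedCategory.Q.obj ((sg p).obj J)) H m := fun H J p m hpm hJ =>
    (killedSingle_sg_iff hcov H (adj H) J p m (m - p).toNat (by omega) (by omega)).2 (hJ _ (by omega))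
  constructor
  · rintro ⟨I, lo, hI0, hIq, ⟨e⟩⟩ H hH i hi
    refine killedSingle_congr e H i ?_
    refine killedSingle_of_terms (fun J => ∀ q : ℕ, 0 < q → IsZero (((S H).rightDerived q).obj J))
      (fun eM hM q hq => (hM q hq).of_iso (((S H).rightDerived q).mapIso eM.symm))
      H i (fun J p hJ hp => hterm H J p i hp hJ) (N + 1 - lo).toNat I N hi ?_ ?_ fun m _ _ => hIq m H hH
    · rw [CochainComplex.isStrictlyLE_iff]
      exact fun m hm => hI0 m (Or.inr hm)
    · rw [CochainComplex.isStrictlyGE_iff]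
      exact fun m hm => hI0 m (Or.inl (by omega))
  · intro h
    let C₀ := (DerivedCategory.Q (C := C)).objPreimage K
    let eC : DerivedCategory.Q.obj C₀ ≅ K := DerivedCategory.Q.objObjPreimageIso K
    haveI : C₀.IsGE a := (DerivedCategory.isGE_Q_obj_iff C₀ a).1 (DerivedCategory.TStructure.t.isGE_of_iso eC.symm a)
    obtain ⟨J, s, hs, hJ, hGE⟩ :=
      CochainComplex.Plus.modelCategoryQuillen.exists_quasiIso_injective (C₀.truncGE a) a
    haveI := hs
    haveI := hGE
    haveI := hJ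
    let eJ : DerivedCategory.Q.obj J ≅ K := (asIso (DerivedCategory.Q.map (C₀.πTruncGE a ≫ s))).symm ≪≫ eC
    haveI hle : J.IsLE N := by
      rw [CochainComplex.isLE_iff]
      intro m hm
      rw [exactAt_iff_isZero_homology]
      exact (hN m hm fun H hH => h H hH m hm).of_iso
        (((DerivedCategory.homologyFunctorFactors _ m).app J).symm ≪≫
          (DerivedCategory.homologyFunctor _ m).mapIso eJ)
    let I := J.truncLE N
    haveI : I.IsStrictlyLE N := inferInstance
    haveI : I.IsStrictlyGE a := inferInstance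
    haveI : QuasiIso (J.ιTruncLE N) := inferInstance
    let eI : DerivedCategory.Q.obj I ≅ K := asIso (DerivedCategory.Q.map (J.ιTruncLE N)) ≪≫ eJ
    have hinj : ∀ m : ℤ, m ≠ N → Injective (I.X m) := fun m hm => by
      rcases lt_or_gt_of_ne hm with hm | hm
      · refine Injective.of_iso (HomologicalComplex.truncLEXIso J (ComplexShape.embeddingUpIntLE N)
          (i := (N - m).toNat) ?_ ?_).symm inferInstance
        · simp only [ComplexShape.embeddingUpIntLE_f]; omega
        · rw [ComplexShape.boundaryLE_embeddingUpIntLE_iff]; omega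
      · exact IsZero.injective (I.isZero_of_isStrictlyLE N m hm)
    have hext : ∀ (H : C) (M : C), Injective M → ∀ q : ℕ, 0 < q →
        IsZero (((S H).rightDerived q).obj M) := fun H M _ q hq => by
      obtain ⟨q, rfl⟩ : ∃ k, q = k + 1 := ⟨q - 1, by omega⟩
      exact (S H).isZero_rightDerived_obj_injective_succ q M
    refine ⟨I, a, fun m hm => ?_, fun m H hH q hq => ?_, ⟨eI⟩⟩
    · rcases hm with hm | hm
      · exact I.isZero_of_isStrictlyGE a m hm
      · exact I.isZero_of_isStrictlyLE N m hm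
    · by_cases hmN : m = N
      · subst hmN
        refine (killedSingle_sg_iff hcov H (adj H) (I.X m) m (m + q) q hq (by omega)).1 ?_
        have hK : KilledSingle (B := B) (DerivedCategory.Q.obj I) H (m + q) :=
          killedSingle_congr eI.symm H _ (h H hH _ (by omega))
        obtain ⟨T, hT, h1, h2, h3, h4⟩ := exists_split_top I m
        have h4' : ∀ k, k ≠ m → Nonempty (T.X₃.X k ≅ I.X k) := h4
        rw [← h2] at hK
        rw [← h1]
        refine killedSingle₁ _ (DerivedCategory.triangleOfSES_distinguished hT) H _ hK ?_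
        refine killedSingle_congr ((DerivedCategory.Q.commShiftIso (-1 : ℤ)).app T.X₃) H _ ?_
        refine killedSingle_of_terms Injective (fun eM hM => Injective.of_iso eM hM) H (m + q)
          (fun M p hM hp => hterm H M p _ hp (hext H M hM)) (m + 1 - a).toNat
          (T.X₃⟦(-1 : ℤ)⟧) m (by omega) ?_ ?_ fun k _ hk => ?_
        · rw [CochainComplex.isStrictlyLE_iff]
          intro k hk
          change IsZero (T.X₃.X (k + -1))
          by_cases hkm : k + -1 = m
          · rw [hkm]; exact h3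
          · exact (I.isZero_of_isStrictlyLE m _ (by omega)).of_iso (h4' _ hkm).some
        · rw [CochainComplex.isStrictlyGE_iff]
          intro k hk
          change IsZero (T.X₃.X (k + -1))
          by_cases hkm : k + -1 = m
          · rw [hkm]; exact h3
          · exact (I.isZero_of_isStrictlyGE a _ (by omega)).of_iso (h4' _ hkm).some
        · change Injective (T.X₃.X (k + -1))
          by_cases hkm : k + -1 = m
          · rw [hkm]; exact IsZero.injective h3
          · exact Injective.of_iso (h4' _ hkm).some.symm (hinj _ hkm)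
      · exact hext H (I.X m) (hinj m hmN) q hq

end Generic

section Etale

variable {Λ : Type (u + 1)} [CommRing Λ] {X : Scheme.{u}}

theorem hasSheafHom (F : EtModW.Mod Λ X) : EtModD.HasSheafHom F := by
  haveI : PreservesColimitsOfSize.{u + 1, u + 1} ((EtModD.tensorBi Λ X).obj F) :=
    ⟨fun {J} _ => by
      haveI := preservesColimitsOfShape_tensor_flip' F J
      exact preservesColimitsOfShape_of_natIso ((braid Λ X).app F).symm⟩
  exact isLeftAdjoint_of_preservesColimits_of_isSeparating (isSeparator_separator (EtModW.Mod Λ X)) _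

/-- `- ⊗ F ⊣ Hom(F, -)` -/
def sheafHomAdj' (F : EtModW.Mod Λ X) [EtModD.HasSheafHom F] :
    (EtModD.tensorBi Λ X).flip.obj F ⊣ EtModD.sheafHom F :=
  (EtModD.sheafHomAdj F).ofNatIsoLeft ((braid Λ X).app F)

/-- `G → G ⊗ Λ` -/
def toTensCst (G : EtModW.Mod Λ X) : G ⟶ ((EtModD.tensorBi Λ X).obj G).obj (EtModW.constMod Λ X Λ) :=
  ⟨(ρ_ G.obj).inv ≫ G.obj ◁ toSheafify X.smallEtaleTopology ((Functor.const X.Etaleᵒᵖ).obj (ModuleCat.of Λ Λ)) ≫
    toSheafify X.smallEtaleTopology (G.obj ⊗ (EtModW.constMod Λ X Λ).obj)⟩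

theorem toTensCst_natural {G G' : EtModW.Mod Λ X} (p : G' ⟶ G) :
    p ≫ toTensCst G = toTensCst G' ≫ ((EtModD.tensorBi Λ X).map p).app (EtModW.constMod Λ X Λ) := by
  apply ObjectProperty.hom_ext
  change p.hom ≫ (ρ_ G.obj).inv ≫ _ = ((ρ_ G'.obj).inv ≫ _ ≫ _) ≫
    sheafifyMap X.smallEtaleTopology (p.hom ▷ (EtModW.constMod Λ X Λ).obj)
  rw [rightUnitor_inv_naturality_assoc, Category.assoc, Category.assoc]
  refine congrArg (_ ≫ ·) ?_
  exact (MonoidalCategory.whisker_exchange_assoc p.hom _ _).symm.trans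
    (congrArg (_ ≫ ·) (toSheafify_naturality X.smallEtaleTopology (p.hom ▷ (EtModW.constMod Λ X Λ).obj)))

instance isIso_toTensCst (G : EtModW.Mod Λ X) : IsIso (toTensCst G) := by
  refine EtTrivGen.isIso_of_stalk _ fun Ω _ _ ξ => ?_
  let Φ := Scheme.pointSmallEtale ξ
  let P : X.Etaleᵒᵖ ⥤ ModuleCat.{u + 1} Λ := (Functor.const X.Etaleᵒᵖ).obj (ModuleCat.of Λ Λ)
  haveI : IsIso (Φ.presheafFiber.map (toSheafify X.smallEtaleTopology (G.obj ⊗ (EtModW.constMod Λ X Λ).obj))) :=
    Φ.W_isInvertedBy_presheafFiber' _ (X.smallEtaleTopology.W_toSheafify _)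
  haveI : IsIso (Φ.presheafFiber.map (toSheafify X.smallEtaleTopology P)) :=
    Φ.W_isInvertedBy_presheafFiber' _ (X.smallEtaleTopology.W_toSheafify _)
  haveI : IsIso (Φ.presheafFiber.map (G.obj ◁ toSheafify X.smallEtaleTopology P)) := by
    rw [Functor.Monoidal.map_whiskerLeft]
    infer_instance
  change IsIso (Φ.presheafFiber.map ((ρ_ G.obj).inv ≫ G.obj ◁ toSheafify X.smallEtaleTopology P ≫
    toSheafify X.smallEtaleTopology (G.obj ⊗ (EtModW.constMod Λ X Λ).obj)))
  rw [Functor.map_comp, Functor.map_comp]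
  infer_instance

/-- vanishing against the constant sheaf kills cohomology -/
theorem isZero_HD_of_killedSingle_cst (K : EtModD.D Λ X) (n : ℤ)
    (h : KilledSingle (B := EtModD.tensorBi Λ X) K (EtModW.constMod Λ X Λ) n) : IsZero (EtModD.HD K n) := by
  refine (isZero_homology_iff_killed (KFlat.FlatObj (EtModD.tensorBi Λ X)) exists_flat_epi K n).2 fun G hG x => ?_
  obtain ⟨G', p, hp, hG', hy⟩ := h G hG (DerivedCategory.Q.map ((sg n).map (inv (toTensCst G))) ≫ x)
  refine ⟨G', p, hp, hG', ?_⟩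
  have hk : p = toTensCst G' ≫ ((EtModD.tensorBi Λ X).map p).app (EtModW.constMod Λ X Λ) ≫ inv (toTensCst G) := by
    rw [← Category.assoc, ← toTensCst_natural, Category.assoc, IsIso.hom_inv_id, Category.comp_id]
  rw [hk, Functor.map_comp, Functor.map_comp, Functor.map_comp, Functor.map_comp, Category.assoc, Category.assoc, hy,
    comp_zero]

/-- vanishing of a cohomology sheaf of `RHom(F[0], K)` -/
theorem isZero_HD_dual_single_iff (K : EtModD.D Λ X) (F : EtModW.Mod Λ X)
    [EtModD.HasLTensorCx ((sg 0).obj F)] [EtModD.HasRHom ((sg 0).obj F)] (i : ℤ) :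
    IsZero (EtModD.HD (EtModD.dual K ((sg 0).obj F)) i) ↔ KilledSingle (B := EtModD.tensorBi Λ X) K F i := by
  rw [isZero_HD_dual_iff, killed_single_iff (braid Λ X), add_zero]

theorem single_eq_sg (F : EtModW.Mod Λ X) :
    (CochainComplex.singleFunctor (EtModW.Mod Λ X) 0).obj F = (sg 0).obj F := rfl

theorem dual_iff_of_eq {E E' : CochainComplex (EtModW.Mod Λ X) ℤ} (h : E = E') (K : EtModD.D Λ X) (i : ℤ) (P : Prop)
    (hh : ∀ [EtModD.HasLTensorCx E'] [EtModD.HasRHom E'], IsZero (EtModD.HD ((EtModD.RHom E').obj K) i) ↔ P)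
    [EtModD.HasLTensorCx E] [EtModD.HasRHom E] : IsZero (EtModD.HD ((EtModD.RHom E).obj K) i) ↔ P := by
  subst h
  exact hh

/-- vanishing of a cohomology sheaf of `RHom(F, K)` for a sheaf `F` in degree zero -/
theorem isZero_HD_RHom_singleFunctor_iff (K : EtModD.D Λ X) (F : EtModW.Mod Λ X)
    [EtModD.HasLTensorCx ((CochainComplex.singleFunctor (EtModW.Mod Λ X) 0).obj F)]
    [EtModD.HasRHom ((CochainComplex.singleFunctor (EtModW.Mod Λ X) 0).obj F)] (i : ℤ) :
    IsZero (EtModD.HD ((EtModD.RHom ((CochainComplex.singleFunctor (EtModW.Mod Λ X) 0).obj F)).obj K) i) ↔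
      KilledSingle (B := EtModD.tensorBi Λ X) K F i :=
  dual_iff_of_eq (single_eq_sg F) K i _ (fun {_} {_} => isZero_HD_dual_single_iff K F i)

/-- `Hom(F, -)` without binders -/
def shomS (F : EtModW.Mod Λ X) : EtModW.Mod Λ X ⥤ EtModW.Mod Λ X :=
    haveI := hasSheafHom F; EtModD.sheafHom F
theorem shomS_additive (F : EtModW.Mod Λ X) : (shomS F).Additive :=
    haveI := hasSheafHom F; EtModD.additive_sheafHom F
def shomSAdj (F : EtModW.Mod Λ X) : (EtModD.tensorBi Λ X).flip.obj F ⊣ shomS F :=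
    haveI := hasSheafHom F; sheafHomAdj' F
theorem exists_quasiInj_iff' (𝒦 : EtModW.Mod Λ X → Prop) (N : ℤ) (K : EtModD.D Λ X) (a : ℤ) [K.IsGE a]
    (hN : ∀ i, N < i → (∀ H, 𝒦 H → KilledSingle (B := EtModD.tensorBi Λ X) K H i) →
      IsZero ((DerivedCategory.homologyFunctor (EtModW.Mod Λ X) i).obj K)) :
    (∃ (I : CochainComplex (EtModW.Mod Λ X) ℤ) (lo : ℤ), (∀ i : ℤ, i < lo ∨ N < i → IsZero (I.X i)) ∧
      (∀ (i : ℤ) (H : EtModW.Mod Λ X), 𝒦 H → ∀ q : ℕ, 0 < q →
        IsZero ((haveI := shomS_additive H; (shomS H).rightDerived q).obj (I.X i))) ∧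
      Nonempty (DerivedCategory.Q.obj I ≅ K)) ↔
    ∀ H, 𝒦 H → ∀ i : ℤ, N < i → KilledSingle (B := EtModD.tensorBi Λ X) K H i :=
  exists_quasiInj_iff (B := EtModD.tensorBi Λ X) exists_flat_epi 𝒦 shomS shomS_additive shomSAdj N K a hN
theorem extSheaf_shomS_iff (F M : EtModW.Mod Λ X) [EtModD.HasSheafHom F] (q : ℕ) :
    IsZero ((EtModD.extSheaf F q).obj M) ↔ IsZero ((haveI := shomS_additive F; (shomS F).rightDerived q).obj M) := Iff.rfl
theorem exists_quasiInj_congr (N : ℤ) (K : EtModD.D Λ X) (a : ℤ) [K.IsGE a] (𝒦 : EtModW.Mod Λ X → Prop) :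
    (∃ (I : CochainComplex (EtModW.Mod Λ X) ℤ) (lo : ℤ), (∀ i : ℤ, i < lo ∨ N < i → IsZero (I.X i)) ∧
      (∀ (i : ℤ) (H : EtModW.Mod Λ X), 𝒦 H → ∀ q : ℕ, 0 < q →
        IsZero ((haveI := shomS_additive H; (shomS H).rightDerived q).obj (I.X i))) ∧
      Nonempty (DerivedCategory.Q.obj I ≅ K)) ↔
    (∃ (I : CochainComplex (EtModW.Mod Λ X) ℤ) (lo : ℤ), (∀ i : ℤ, i < lo ∨ N < i → IsZero (I.X i)) ∧
      (∀ (i : ℤ) (H : EtModW.Mod Λ X) [EtModD.HasSheafHom H], 𝒦 H → ∀ q : ℕ, 0 < q →
        IsZero ((EtModD.extSheaf H q).obj (I.X i))) ∧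
      Nonempty (DerivedCategory.Q.obj I ≅ K)) :=
  exists_congr fun I => exists_congr fun _ => and_congr_right' (and_congr_left' (forall_congr' fun i => forall_congr' fun H =>
    ⟨fun h _ hH q hq => (extSheaf_shomS_iff H (I.X i) q).2 (h hH q hq),
     fun h hH q hq => haveI := hasSheafHom H; (extSheaf_shomS_iff H (I.X i) q).1 (h hH q hq)⟩))
theorem killed_iff_RHom (N : ℤ) (K : EtModD.D Λ X) (𝒦 : EtModW.Mod Λ X → Prop) :
    (∀ H, 𝒦 H → ∀ i : ℤ, N < i → KilledSingle (B := EtModD.tensorBi Λ X) K H i) ↔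
    ∀ (F : EtModW.Mod Λ X) [EtModD.HasLTensorCx ((CochainComplex.singleFunctor (EtModW.Mod Λ X) 0).obj F)]
      [EtModD.HasRHom ((CochainComplex.singleFunctor (EtModW.Mod Λ X) 0).obj F)],
      𝒦 F → ∀ i : ℤ, N < i →
        IsZero (EtModD.HD ((EtModD.RHom ((CochainComplex.singleFunctor (EtModW.Mod Λ X) 0).obj F)).obj K) i) := by
  constructor
  · intro h F _ _ hF i hi
    exact (isZero_HD_RHom_singleFunctor_iff K F i).2 (h F hF i hi)
  · intro h F hF i hi
    haveI := hasLTensorCx ((CochainComplex.singleFunctor (EtModW.Mod Λ X) 0).obj F)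
    haveI := hasRHom ((CochainComplex.singleFunctor (EtModW.Mod Λ X) 0).obj F)
    exact (isZero_HD_RHom_singleFunctor_iff K F i).1 (h F hF i hi)
/-- **quasi-injective dimension through resolutions** -/
theorem exists_quasiInj_iff_RHom (𝒦 : EtModW.Mod Λ X → Prop) (hc : 𝒦 (EtModW.constMod Λ X Λ)) (N : ℤ)
    (K : EtModD.D Λ X) (a : ℤ) [K.IsGE a] :
    (∃ (I : CochainComplex (EtModW.Mod Λ X) ℤ) (lo : ℤ), (∀ i : ℤ, i < lo ∨ N < i → IsZero (I.X i)) ∧
      (∀ (i : ℤ) (H : EtModW.Mod Λ X) [EtModD.HasSheafHom H], 𝒦 H → ∀ q : ℕ, 0 < q →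
        IsZero ((EtModD.extSheaf H q).obj (I.X i))) ∧
      Nonempty (DerivedCategory.Q.obj I ≅ K)) ↔
    ∀ (F : EtModW.Mod Λ X) [EtModD.HasLTensorCx ((CochainComplex.singleFunctor (EtModW.Mod Λ X) 0).obj F)]
      [EtModD.HasRHom ((CochainComplex.singleFunctor (EtModW.Mod Λ X) 0).obj F)],
      𝒦 F → ∀ i : ℤ, N < i →
        IsZero (EtModD.HD ((EtModD.RHom ((CochainComplex.singleFunctor (EtModW.Mod Λ X) 0).obj F)).obj K) i) :=
  ((exists_quasiInj_congr N K a 𝒦).symm.trans
    (exists_quasiInj_iff' 𝒦 N K a fun i _ h => isZero_HD_of_killedSingle_cst K i (h _ hc))).trans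
    (killed_iff_RHom N K 𝒦)

end Etale

end Groth.Agent.EtConsShriek

end
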