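import Groth.Agent.EtConsShriek.Tensor
import Groth.Agent.RHomCx.Contract
import Groth.Agent.RHomCx.Derived
import Groth.Agent.KInj.Ops
import Groth.Agent.DQCoh.Coprod
import Groth.Prelude.Def_EtModD2
import Mathlib.CategoryTheory.Adjunction.AdjointFunctorTheorems
import Mathlib.Algebra.Homology.GrothendieckAbelian
import Mathlib.CategoryTheory.Adjunction.PartialAdjoint

/-!
`- ⊗^L E` on sheaves of `Λ`-modules on the étale site exists and has a right adjoint, for every complex `E`.
-/

set_option autoImplicit false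
set_option backward.isDefEq.respectTransparency false
set_option backward.isDefEq.respectTransparency.types false
set_option linter.style.haveILetI false
set_option linter.unusedSectionVars false

universe u

open CategoryTheory CategoryTheory.Limits AlgebraicGeometry MonoidalCategory HomologicalComplex

attribute [local instance] HasDerivedCategory.standard preservesBinaryBiproducts_of_preservesBinaryCoproducts

noncomputable section

namespace Groth.Agent.EtConsShriek

variable {Λ : Type (u + 1)} [CommRing Λ] {X : Scheme.{u}}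

local notation "Q" => DerivedCategory.Q (C := EtModW.Mod Λ X)
local notation "Cx" => CochainComplex (EtModW.Mod Λ X) ℤ

theorem preservesColimitsOfShape_tensor_flip' (F : EtModW.Mod Λ X) (J : Type (u + 1)) [SmallCategory J] :
    PreservesColimitsOfShape J ((EtModD.tensorBi Λ X).flip.obj F) := by
  haveI := IsGrothendieckAbelian.hasColimits (EtModW.Mod Λ X)
  suffices PreservesColimitsOfShape J ((EtModD.tensorBi Λ X).obj F) from
    preservesColimitsOfShape_of_natIso ((braid Λ X).app F)
  let T := (EtModD.tensorBi Λ X).obj F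
  refine ⟨fun {D} => ?_⟩
  haveI : IsIso (colimit.post D T) := by
    refine EtTrivGen.isIso_of_stalk _ fun Ω _ _ ξ => ?_
    let S := EtModW.stalk Λ ξ
    haveI := stalk_preservesColimits (Λ := Λ) ξ
    let e : T ⋙ S ≅ S ⋙ tensorRight ((EtModW.stalk Λ ξ).obj F) :=
      Functor.isoWhiskerRight ((braid Λ X).app F) S ≪≫ stTensorIso ξ F
    haveI : PreservesColimitsOfShape J (S ⋙ tensorRight ((EtModW.stalk Λ ξ).obj F)) := inferInstance
    haveI : PreservesColimitsOfShape J (T ⋙ S) := preservesColimitsOfShape_of_natIso e.symm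
    haveI : IsIso (colimit.post (D ⋙ T) S ≫ S.map (colimit.post D T)) := by
      rw [colimit.post_post D T S]
      infer_instance
    exact IsIso.of_isIso_comp_left (colimit.post (D ⋙ T) S) _
  exact preservesColimit_of_isIso_post T D

/-- `A ↦ A ⊗ E` -/
abbrev FE (E : Cx) : Cx ⥤ Cx := (EtModD.tensorCx Λ X).flip.obj E

theorem isLeftAdjoint_FE (E : Cx) : (FE E).IsLeftAdjoint := by
  haveI : IsGrothendieckAbelian.{u + 1} Cx := inferInstance
  haveI : PreservesColimitsOfSize.{u + 1, u + 1} (FE E) :=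
    ⟨fun {J} _ => DQCoh.preservesColimitsOfShape_tens_flip (EtModD.tensorBi Λ X)
      (fun M => preservesColimitsOfShape_tensor_flip' M J) E⟩
  exact isLeftAdjoint_of_preservesColimits_of_isSeparating (isSeparator_separator Cx) (FE E)

/-- the internal Hom complex -/
def GE (E : Cx) : Cx ⥤ Cx :=
  haveI := isLeftAdjoint_FE E
  (FE E).rightAdjoint

/-- `- ⊗ E ⊣ Hom(E, -)` -/
def adjE (E : Cx) : FE E ⊣ GE E :=
  haveI := isLeftAdjoint_FE E
  Adjunction.ofIsLeftAdjoint _

instance additive_FE (E : Cx) : (FE E).Additive := by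
  haveI := isLeftAdjoint_FE E
  haveI : HasBinaryBiproducts Cx := HasBinaryBiproducts.of_hasBinaryProducts
  exact Functor.additive_of_preservesBinaryBiproducts _

theorem homotopy_mate_iff (E : Cx) {A I : Cx} (φ : A ⟶ (GE E).obj I) :
    Nonempty (Homotopy φ 0) ↔ Nonempty (Homotopy (((adjE E).homEquiv A I).symm φ) 0) := by
  let C := CochainComplex.mappingCone (𝟙 A)
  let ι : A ⟶ C := CochainComplex.mappingCone.inr (𝟙 A)
  have hι : ∀ n, ι.f n ≫ (CochainComplex.mappingCone.snd (𝟙 A)).v n n (add_zero n) = 𝟙 _ := fun n =>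
    CochainComplex.mappingCone.inr_f_snd_v (𝟙 A) n
  let hC := CochainComplex.mappingCone.homotopyToZeroOfId A
  constructor
  · rintro ⟨h⟩
    obtain ⟨g', hg', -⟩ := RHomCx.exists_extension ι _ hι h
    rw [← hg', (adjE E).homEquiv_naturality_left_symm]
    exact ⟨((Homotopy.ofEq ((congrArg ((FE E).map ι ≫ ·) (by
        rw [(FE E).map_id, Category.id_comp] : (FE E).map (𝟙 C) ≫ _ = ((adjE E).homEquiv C I).symm g')).symm)).trans
      ((((KFlat.homotopyFlip (EtModD.tensorBi Λ X) E hC).compRight _).compLeft _).trans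
        (Homotopy.ofEq (by rw [Functor.map_zero, zero_comp, comp_zero]))))⟩
  · rintro ⟨h⟩
    have hr : ∀ n, ((FE E).map ι).f n ≫ (KFlat.splittingFlip (EtModD.tensorBi Λ X) E (KFlat.coneSC (𝟙 A))
        (KFlat.coneSplitting (𝟙 A)) n).r = 𝟙 _ := fun n =>
      (KFlat.splittingFlip (EtModD.tensorBi Λ X) E (KFlat.coneSC (𝟙 A)) (KFlat.coneSplitting (𝟙 A)) n).f_r
    obtain ⟨g', hg', -⟩ := RHomCx.exists_extension ((FE E).map ι) _ hr h
    have : φ = ι ≫ (adjE E).homEquiv C I g' := by
      rw [← (adjE E).homEquiv_naturality_left, hg', Equiv.apply_symm_apply]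
    rw [this]
    exact ⟨(Homotopy.ofEq (congrArg (ι ≫ ·) (Category.id_comp _).symm)).trans
      (((hC.compRight _).compLeft ι).trans (Homotopy.ofEq (by rw [zero_comp, comp_zero])))⟩

theorem isKInjective_GE {E : Cx} (hE : KFlat.RFlat (EtModD.tensorBi Λ X) E) (I : Cx) [I.IsKInjective] :
    CochainComplex.IsKInjective ((GE E).obj I) := ⟨fun {K} f hK =>
  (homotopy_mate_iff E f).2 ⟨CochainComplex.IsKInjective.homotopyZero _ (hE K hK)⟩⟩

theorem mate_sub (E : Cx) {A I : Cx} (f g : A ⟶ (GE E).obj I) :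
    ((adjE E).homEquiv A I).symm (f - g) =
      ((adjE E).homEquiv A I).symm f - ((adjE E).homEquiv A I).symm g := by
  rw [(adjE E).homEquiv_counit, (adjE E).homEquiv_counit, (adjE E).homEquiv_counit, Functor.map_sub,
    Preadditive.sub_comp]

/-- the derived tensor product exists -/
theorem hasLTensorCx (E : Cx) : EtModD.HasLTensorCx E := (leftRes E).hasLeftDerivedFunctor

/-- the counit of `- ⊗^L E` -/
abbrev ltCounit (E : Cx) [EtModD.HasLTensorCx E] : Q ⋙ EtModD.LTensorCx E ⟶ EtModD.tensorCxQ E :=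
  (EtModD.tensorCxQ E).totalLeftDerivedCounit Q
    (HomologicalComplex.quasiIso (EtModW.Mod Λ X) (ComplexShape.up ℤ))

theorem isIso_ltCounit_app (E : Cx) [EtModD.HasLTensorCx E] {P : Cx}
    (hP : KFlat.RFlat (EtModD.tensorBi Λ X) P) : IsIso ((ltCounit E).app P) :=
  (leftRes E).isIso_app (EtModD.LTensorCx E) (ltCounit E) hP

theorem isIso_ltCounit_app' {E : Cx} (hE : KFlat.RFlat (EtModD.tensorBi Λ X) E) [EtModD.HasLTensorCx E]
    (P : Cx) : IsIso ((ltCounit E).app P) := by
  obtain ⟨P', q, hP', hq⟩ := exists_rflat P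
  haveI := hq
  haveI := isIso_ltCounit_app E hP'
  haveI := hE.quasiIso_map_app q
  haveI h2 : IsIso ((EtModD.tensorCxQ E).map q) :=
    inferInstanceAs (IsIso ((Q).map (((EtModD.tensorCx Λ X).map q).app E)))
  haveI h3 : IsIso ((Q ⋙ EtModD.LTensorCx E).map q) :=
    inferInstanceAs (IsIso ((EtModD.LTensorCx E).map ((Q).map q)))
  have h := (ltCounit E).naturality q
  have h4 : IsIso ((ltCounit E).app P' ≫ (EtModD.tensorCxQ E).map q) := inferInstance
  exact @IsIso.of_isIso_fac_left _ _ _ _ _ _ _ _ h3 h4 h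

theorem bijective_ltMap {E : Cx} (hE : KFlat.RFlat (EtModD.tensorBi Λ X) E) [EtModD.HasLTensorCx E]
    (I : Cx) [I.IsKInjective] (Z : EtModD.D Λ X) :
    Function.Bijective fun g : Z ⟶ (Q).obj ((GE E).obj I) =>
      (EtModD.LTensorCx E).map g ≫ (ltCounit E).app ((GE E).obj I) ≫ (Q).map ((adjE E).counit.app I) := by
  haveI := isKInjective_GE hE I
  haveI : (Q).EssSurj := Localization.essSurj _
    (HomologicalComplex.quasiIso (EtModW.Mod Λ X) (ComplexShape.up ℤ))
  let A := (Q).objPreimage Z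
  let e : (Q).obj A ≅ Z := (Q).objObjPreimageIso Z
  have hA := RHomCx.bijective_mate (adjE E) (ltCounit E)
      (fun B => isIso_ltCounit_app' hE B) A I (fun t => KInj.Q_map_surjective t)
      (fun t => KInj.Q_map_surjective t) fun f g h => by
    obtain ⟨H⟩ := KInj.nonempty_homotopy_of_Q_map_eq h
    rw [← mate_sub] at H
    obtain ⟨H'⟩ := (homotopy_mate_iff E (f - g)).2 ⟨H⟩
    exact DerivedCategory.Q_map_eq_of_homotopy _ (Homotopy.equivSubZero.symm H')
  constructor
  · intro g g' h
    refine (cancel_epi e.hom).1 (hA.1 ?_)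
    dsimp only at h ⊢
    rw [Functor.map_comp, Functor.map_comp, Category.assoc, Category.assoc, h]
  · intro t
    obtain ⟨g, hg⟩ := hA.2 ((EtModD.LTensorCx E).map e.hom ≫ t)
    refine ⟨e.inv ≫ g, ?_⟩
    dsimp only at hg ⊢
    rw [Functor.map_comp, Category.assoc, hg, ← Functor.map_comp_assoc, e.inv_hom_id,
      CategoryTheory.Functor.map_id, Category.id_comp]

/-- replacing `E` by a quasi-isomorphic complex -/
theorem nonempty_LTensorCx_iso {E E' : Cx} (ψ : E' ⟶ E) [QuasiIso ψ] [EtModD.HasLTensorCx E]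
    [EtModD.HasLTensorCx E'] : Nonempty (EtModD.LTensorCx E' ≅ EtModD.LTensorCx E) := by
  let W := HomologicalComplex.quasiIso (EtModW.Mod Λ X) (ComplexShape.up ℤ)
  let α : (leftRes E').ρ ⋙ EtModD.tensorCxQ E' ⟶ (leftRes E).ρ ⋙ EtModD.tensorCxQ E :=
    Functor.whiskerLeft (leftRes E).ρ (Functor.whiskerRight ((EtModD.tensorCx Λ X).flip.map ψ) Q)
  haveI : IsIso α := by
    haveI : ∀ A, IsIso (α.app A) := fun A => by
      have := KFlat.quasiIso_obj_map_of_acyclic (B := EtModD.tensorBi Λ X) ((leftRes E).ρ.obj A) ψ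
        (KFlat.acyclic_of_iso (KFlat.swapIso (braid Λ X) _ _)
          ((leftRes E).mem A _ (KFlat.mappingCone_acyclic ψ)))
      exact inferInstanceAs (IsIso ((Q).map (((EtModD.tensorCx Λ X).obj ((leftRes E).ρ.obj A)).map ψ)))
    exact NatIso.isIso_of_isIso_app α
  haveI h₁ : Localization.Lifting Q W ((leftRes E').ρ ⋙ EtModD.tensorCxQ E') ((leftRes E').derived Q) :=
    ⟨(leftRes E').derivedIso Q⟩
  haveI h₂ : Localization.Lifting Q W ((leftRes E).ρ ⋙ EtModD.tensorCxQ E) ((leftRes E).derived Q) :=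
    ⟨(leftRes E).derivedIso Q⟩
  let d : (leftRes E').derived Q ≅ (leftRes E).derived Q :=
    Localization.liftNatIso Q W ((leftRes E').ρ ⋙ EtModD.tensorCxQ E') ((leftRes E).ρ ⋙ EtModD.tensorCxQ E) _ _ (asIso α)
  exact ⟨(Functor.leftDerivedUnique _ _ (ltCounit E') ((leftRes E').counit Q) W) ≪≫ d ≪≫
    Functor.leftDerivedUnique _ _ ((leftRes E).counit Q) (ltCounit E) W⟩

theorem exists_kInj_rep (L : EtModD.D Λ X) :
    ∃ I : Cx, I.IsKInjective ∧ Nonempty ((Q).obj I ≅ L) := by
  obtain ⟨I, f, hI, hf, -, -⟩ := KInj.exists_kInjective ((Q).objPreimage L)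
  haveI := hf
  exact ⟨I, hI, ⟨(asIso ((Q).map f)).symm ≪≫ (Q).objObjPreimageIso L⟩⟩

/-- `RHom(E, -)` exists -/
theorem hasRHom (E : Cx) [EtModD.HasLTensorCx E] : EtModD.HasRHom E := by
  obtain ⟨E', ψ, hE', hψ⟩ := exists_rflat E
  haveI := hψ
  haveI := hasLTensorCx E'
  suffices h : (EtModD.LTensorCx E').IsLeftAdjoint by
    obtain ⟨Φ⟩ := nonempty_LTensorCx_iso ψ
    exact Functor.isLeftAdjoint_of_iso Φ
  refine Functor.isLeftAdjoint_of_rightAdjointObjIsDefined_eq_top ?_
  ext L
  simp only [Pi.top_apply, Prop.top_eq_true, iff_true]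
  obtain ⟨I, hI, ⟨e⟩⟩ := exists_kInj_rep L
  haveI := hI
  let ε := (ltCounit E').app ((GE E').obj I) ≫ (Q).map ((adjE E').counit.app I)
  refine (Functor.rightAdjointObjIsDefined_iff _ _).2 ⟨(Q).obj ((GE E').obj I), ⟨?_⟩⟩
  exact
    { homEquiv := fun {Z} => (Equiv.ofBijective _ (bijective_ltMap hE' I Z)).trans
        { toFun := fun t => t ≫ e.hom
          invFun := fun t => t ≫ e.inv
          left_inv := fun t => by simp
          right_inv := fun t => by simp }
      homEquiv_comp := fun {Z Z'} g f => by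
        change ((EtModD.LTensorCx E').map (g ≫ f) ≫ ε) ≫ e.hom =
          (EtModD.LTensorCx E').map g ≫ ((EtModD.LTensorCx E').map f ≫ ε) ≫ e.hom
        simp only [ε, Functor.map_comp, Category.assoc] }

end Groth.Agent.EtConsShriek

end
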