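import Groth.Agent.EtConsShriek.Tensor
import Groth.Agent.KFlat.MapTens
import Groth.Agent.CohDerRes.Left
import Groth.Agent.EtTrivGen.PullTensor

/-!
The derived tensor product of bounded above objects with constructible cohomology, on any scheme.
-/

set_option autoImplicit false
set_option backward.isDefEq.respectTransparency false
set_option backward.isDefEq.respectTransparency.types false
set_option linter.style.haveILetI false
set_option linter.unusedSectionVars false

universe u

open CategoryTheory CategoryTheory.Limits AlgebraicGeometry MonoidalCategory Opposite Topology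
open Groth.Agent.EtTrivGen
open scoped ZeroObject

attribute [local instance] HasDerivedCategory.standard CategoryTheory.Abelian.hasFiniteBiproducts

noncomputable section

namespace Groth.Agent.EtConsShriek

variable {Λ : Type (u + 1)} [CommRing Λ] {X Y : Scheme.{u}}

/-- flat stalks -/
def HasFlatStalks (F : EtModW.Mod Λ X) : Prop :=
  ∀ (Ω : Type u) [Field Ω] [IsSepClosed Ω] (ξ : Spec (CommRingCat.of Ω) ⟶ X),
    Module.Flat Λ ((EtModW.stalk Λ ξ).obj F : Type (u + 1))

theorem exists_flatStalks_epi (F : EtModW.Mod Λ X) :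
    ∃ (G : EtModW.Mod Λ X) (π : G ⟶ F), HasFlatStalks G ∧ Epi π :=
  ⟨(coverF Λ X).obj F, (coverπ Λ X).app F, fun _ _ _ ξ => flat_stalk_freeSh _ ξ, inferInstance⟩

theorem exists_flatStalks_zero : ∃ Z : EtModW.Mod Λ X, IsZero Z ∧ HasFlatStalks Z := by
  refine ⟨0, isZero_zero _, fun Ω _ _ ξ => ?_⟩
  haveI := (stalk_exact (Λ := Λ) ξ).1
  haveI := (stalk_exact (Λ := Λ) ξ).2
  haveI : (EtModW.stalk Λ ξ).Additive := Functor.additive_of_preserves_binary_products _
  haveI : Subsingleton ((EtModW.stalk Λ ξ).obj (0 : EtModW.Mod Λ X) : Type (u + 1)) :=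
    ModuleCat.subsingleton_of_isZero ((EtModW.stalk Λ ξ).map_isZero (isZero_zero _))
  infer_instance

theorem HasFlatStalks.pull (f : X ⟶ Y) {F : EtModW.Mod Λ Y} (h : HasFlatStalks F) :
    HasFlatStalks ((EtModW.pull Λ f).obj F) := fun Ω _ _ η => by
  haveI := h Ω (η ≫ f)
  exact Module.Flat.of_linearEquiv
    ((EtStalk.sheafFiberPullbackIso (EtCoh.bc f) (Scheme.pointSmallEtale (η ≫ f)) (Scheme.pointSmallEtale η)
      (EtStalk.fiberIso f η) (ModuleCat.{u + 1} Λ)).app F).toLinearEquiv.symm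

section Natural

variable (f : X ⟶ Y)

theorem delta_natural_left {F F' : EtModW.Mod Λ Y} (a : F ⟶ F') (G : EtModW.Mod Λ Y) :
    (EtModW.pull Λ f).map (((EtModD.tensorBi Λ Y).map a).app G) ≫ delta f F' G =
      delta f F G ≫ ((EtModD.tensorBi Λ X).map ((EtModW.pull Λ f).map a)).app ((EtModW.pull Λ f).obj G) := by
  simp only [delta, beta]
  rw [← Adjunction.homEquiv_naturality_left_symm, ← Adjunction.homEquiv_naturality_right_symm]
  refine congrArg _ ?_
  erw [← Adjunction.homEquiv_naturality_left_symm, ← Adjunction.homEquiv_naturality_right_symm]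
  refine congrArg _ (NatTrans.ext (funext fun V => ?_))
  have hu := congrArg (fun t => t.hom.app V) ((adjM (Λ := Λ) f).unit.naturality a)
  have ht := congrArg (fun t => t.app ((EtCoh.bc f).op.obj V)) (toSheafify_naturality X.smallEtaleTopology
    (((EtModW.pull Λ f).map a).hom ▷ ((EtModW.pull Λ f).obj G).obj))
  change (a.hom.app V ▷ G.obj.obj V) ≫ (_ ⊗ₘ _) ≫ _ = ((_ ⊗ₘ _) ≫ _) ≫ _
  rw [← tensorHom_id, tensorHom_comp_tensorHom_assoc, Category.id_comp, Category.assoc]
  refine Eq.trans ?_ (congrArg (_ ≫ ·) ht)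
  change _ = _ ≫ (((EtModW.pull Λ f).map a).hom.app ((EtCoh.bc f).op.obj V) ▷ _) ≫ _
  rw [← tensorHom_id, tensorHom_comp_tensorHom_assoc, Category.comp_id]
  exact congrArg (fun t => (t ⊗ₘ _) ≫ _) hu

theorem delta_natural_right (F : EtModW.Mod Λ Y) {G G' : EtModW.Mod Λ Y} (b : G ⟶ G') :
    (EtModW.pull Λ f).map (((EtModD.tensorBi Λ Y).obj F).map b) ≫ delta f F G' =
      delta f F G ≫ ((EtModD.tensorBi Λ X).obj ((EtModW.pull Λ f).obj F)).map ((EtModW.pull Λ f).map b) := by
  simp only [delta, beta]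
  rw [← Adjunction.homEquiv_naturality_left_symm, ← Adjunction.homEquiv_naturality_right_symm]
  refine congrArg _ ?_
  show (presheafToSheaf Y.smallEtaleTopology (ModuleCat.{u + 1} Λ)).map (F.obj ◁ b.hom) ≫ _ = _
  erw [← Adjunction.homEquiv_naturality_left_symm, ← Adjunction.homEquiv_naturality_right_symm]
  refine congrArg _ (NatTrans.ext (funext fun V => ?_))
  have hu := congrArg (fun t => t.hom.app V) ((adjM (Λ := Λ) f).unit.naturality b)
  have ht := congrArg (fun t => t.app ((EtCoh.bc f).op.obj V)) (toSheafify_naturality X.smallEtaleTopology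
    (((EtModW.pull Λ f).obj F).obj ◁ ((EtModW.pull Λ f).map b).hom))
  change (F.obj.obj V ◁ b.hom.app V) ≫ (_ ⊗ₘ _) ≫ _ = ((_ ⊗ₘ _) ≫ _) ≫ _
  rw [← id_tensorHom, tensorHom_comp_tensorHom_assoc, Category.id_comp, Category.assoc]
  refine Eq.trans ?_ (congrArg (_ ≫ ·) ht)
  change _ = _ ≫ (_ ◁ ((EtModW.pull Λ f).map b).hom.app ((EtCoh.bc f).op.obj V)) ≫ _
  rw [← id_tensorHom, tensorHom_comp_tensorHom_assoc, Category.comp_id]
  exact congrArg (fun t => (_ ⊗ₘ t) ≫ _) hu

/-- inverse image of a tensor product of complexes -/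
def pullTensCx (P E : CochainComplex (EtModW.Mod Λ Y) ℤ) :
    ((EtModD.tensorCx Λ X).obj (((EtModW.pull Λ f).mapHomologicalComplex (ComplexShape.up ℤ)).obj P)).obj
        (((EtModW.pull Λ f).mapHomologicalComplex (ComplexShape.up ℤ)).obj E) ≅
      ((EtModW.pull Λ f).mapHomologicalComplex (ComplexShape.up ℤ)).obj
        (((EtModD.tensorCx Λ Y).obj P).obj E) :=
  haveI : PreservesColimitsOfSize.{u + 1, u + 1} (EtModW.pull Λ f) :=
    (EtSix.pullPushModAdj Λ f).leftAdjoint_preservesColimits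
  haveI : PreservesColimitsOfSize.{0, 0} (EtModW.pull Λ f) := preservesSmallestColimits_of_preservesColimits _
  KFlat.mapTensIso (EtModW.pull Λ f) (EtModW.pull Λ f) (𝟭 _) (𝟭 _) (EtModW.pull Λ f)
    (EtModD.tensorBi Λ Y) (EtModD.tensorBi Λ X) (fun M N => (pullTensorIso f M N).symm)
    (fun {M M'} a N => by
      show _ ≫ (pullTensorIso f M' N).inv = (pullTensorIso f M N).inv ≫ _
      rw [Iso.comp_inv_eq, Category.assoc, Iso.eq_inv_comp]
      exact (delta_natural_left f a N).symm)
    (fun M {N N'} b => by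
      show _ ≫ (pullTensorIso f M N').inv = (pullTensorIso f M N).inv ≫ _
      rw [Iso.comp_inv_eq, Category.assoc, Iso.eq_inv_comp]
      exact (delta_natural_right f M b).symm)
    P E

end Natural

/-- constructibility is local on the scheme -/
theorem isConstructible_of_affine_pull {F : EtModW.Mod Λ X}
    (h : ∀ U : X.Opens, IsAffineOpen U → EtModW.IsConstructible Λ ((EtModW.pull Λ U.ι).obj F)) :
    EtModW.IsConstructible Λ F := by
  rw [isConstructible_iff_goodAt]
  intro x
  obtain ⟨U, hU, hxU, -⟩ := EtCons.exists_affine_le (V := (⊤ : X.Opens)) (x := x) trivial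
  obtain ⟨D, hD, hxD, T, g, C, hg, hC, ⟨_, hxC⟩, hCg, hft⟩ :=
    (isConstructible_iff_goodAt _).1 (h U hU) (⟨x, hxU⟩ : U.toScheme)
  haveI := hg
  have hxD' : x ∈ U.ι ''ᵁ D := ⟨⟨x, hxU⟩, hxD, rfl⟩
  let φ : ↥(D : Set U.toScheme) → ↥((U.ι ''ᵁ D : X.Opens) : Set X) := fun d => ⟨U.ι d.1, d.1, d.2, rfl⟩
  have hφ : IsOpenEmbedding φ := by
    have hinj : Function.Injective φ := fun d d' (e : φ d = φ d') =>
      Subtype.ext (U.ι.isOpenEmbedding.injective (congrArg (fun z => z.1) e))
    refine .of_continuous_injective_isOpenMap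
      (Continuous.subtype_mk (U.ι.continuous.comp continuous_subtype_val) _) hinj fun W hW => ?_
    have : φ '' W = Subtype.val ⁻¹' (U.ι '' (Subtype.val '' W)) := by
      ext z
      constructor
      · rintro ⟨d, hd, rfl⟩
        exact ⟨d.1, ⟨d, hd, rfl⟩, rfl⟩
      · rintro ⟨_, ⟨d, hd, rfl⟩, hz⟩
        exact ⟨d, hd, Subtype.ext hz⟩
    rw [this]
    exact (U.ι.isOpenEmbedding.isOpenMap _ (D.isOpen.isOpenMap_subtype_val _ hW)).preimage continuous_subtype_val
  have hr : Set.range φ = Set.univ := Set.eq_univ_of_forall fun z => by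
    obtain ⟨d, hd, hz⟩ := z.2
    exact ⟨⟨d, hd⟩, Subtype.ext hz⟩
  refine ⟨U.ι ''ᵁ D, hD.image_of_isOpenImmersion U.ι, hxD', T, g ≫ U.ι, φ '' C, inferInstance,
    hC.image_of_isOpenEmbedding hφ (by rw [hr]; intro s hs _; simpa using hs),
    ⟨hxD', ⟨⟨⟨x, hxU⟩, hxD⟩, hxC, rfl⟩⟩, ?_, IsFTLocConst.ofIso ((EtSix.pullModComp Λ g U.ι).app F).symm hft⟩
  rintro _ ⟨_, ⟨d, hd, rfl⟩, rfl⟩
  obtain ⟨t, ht⟩ := hCg ⟨d, hd, rfl⟩
  exact ⟨t, (Scheme.Hom.comp_apply g U.ι t).trans (congrArg U.ι ht)⟩

/-- **derived tensor products of bounded above constructible complexes** -/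
theorem LTensorCx_constructible [IsNoetherianRing Λ] (K : EtModD.D Λ X) (E : CochainComplex (EtModW.Mod Λ X) ℤ)
    [EtModD.HasLTensorCx E] (a b : ℤ) [K.IsLE a] [(DerivedCategory.Q.obj E).IsLE b]
    (hK : ∀ i : ℤ, EtModW.IsConstructible Λ (EtModD.HD K i))
    (hE : ∀ i : ℤ, EtModW.IsConstructible Λ (EtModD.HD (DerivedCategory.Q.obj E) i)) :
    ((EtModD.LTensorCx E).obj K).IsLE (a + b) ∧
      ∀ i : ℤ, EtModW.IsConstructible Λ (EtModD.HD ((EtModD.LTensorCx E).obj K) i) := by
  let G : CochainComplex (EtModW.Mod Λ X) ℤ := DerivedCategory.Q.objPreimage K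
  let eG : DerivedCategory.Q.obj G ≅ K := DerivedCategory.Q.objObjPreimageIso K
  let h₁ := fun i => ((DerivedCategory.homologyFunctor _ i).mapIso eG).symm ≪≫
    (DerivedCategory.homologyFunctorFactors (EtModW.Mod Λ X) i).app G
  let h₂ := fun i => (DerivedCategory.homologyFunctorFactors (EtModW.Mod Λ X) i).app E
  obtain ⟨P, p, hP, hPf, hp⟩ := CohDerRes.exists_left_resolution' exists_flatStalks_zero exists_flatStalks_epi G a
    (fun i hn => (DerivedCategory.isZero_of_isLE K a i hn).of_iso (h₁ i).symm)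
  obtain ⟨E', q, hE', hE'f, hq⟩ := CohDerRes.exists_left_resolution' exists_flatStalks_zero exists_flatStalks_epi E b
    (fun i hn => (DerivedCategory.isZero_of_isLE (DerivedCategory.Q.obj E) b i hn).of_iso (h₂ i).symm)
  haveI := hP; haveI := hE'; haveI := hp; haveI := hq
  haveI : ∀ j, QuasiIsoAt p j := (quasiIso_iff _).1 hp
  haveI : ∀ j, QuasiIsoAt q j := (quasiIso_iff _).1 hq
  have hPz : ∀ i, a < i → IsZero (P.X i) := fun i hi => P.isZero_of_isStrictlyLE a i hi
  have hEz : ∀ i, b < i → IsZero (E'.X i) := fun i hi => E'.isZero_of_isStrictlyLE b i hi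
  have hflat : KFlat.RFlat (EtModD.tensorBi Λ X) P :=
    KFlat.rflat_of_bounded_above (EtModD.tensorBi Λ X) preservesColimits_nat a hPz fun n => flatObj_of_stalks (hPf n)
  haveI : QuasiIso (((EtModD.tensorCx Λ X).obj P).map q) :=
    KFlat.quasiIso_obj_map_of_acyclic (B := EtModD.tensorBi Λ X) P q
      (hflat.acyclic_tens_left (braid Λ X) (KFlat.mappingCone_acyclic q))
  obtain ⟨e⟩ := nonempty_ltIso E hflat
  haveI : IsIso (DerivedCategory.Q.map p) := inferInstance
  haveI : IsIso (DerivedCategory.Q.map (((EtModD.tensorCx Λ X).obj P).map q)) := inferInstance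
  let eT : (EtModD.LTensorCx E).obj K ≅ DerivedCategory.Q.obj (((EtModD.tensorCx Λ X).obj P).obj E') :=
    (EtModD.LTensorCx E).mapIso (eG.symm ≪≫ (asIso (DerivedCategory.Q.map p)).symm) ≪≫ e ≪≫
      (asIso (DerivedCategory.Q.map (((EtModD.tensorCx Λ X).obj P).map q))).symm
  haveI := isStrictlyLE_tens hPz hEz
  haveI : (DerivedCategory.Q.obj (((EtModD.tensorCx Λ X).obj P).obj E')).IsLE (a + b) := inferInstance
  refine ⟨DerivedCategory.TStructure.t.isLE_of_iso eT.symm (a + b), fun i => ?_⟩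
  refine IsConstructible.ofIso
    (((DerivedCategory.homologyFunctorFactors _ i).app _).symm ≪≫ (DerivedCategory.homologyFunctor _ i).mapIso eT.symm)
    (isConstructible_of_affine_pull fun U hU => ?_)
  haveI : IsAffine U.toScheme := hU
  let J := EtModW.pull Λ U.ι
  haveI := RPlusComp.pullMod_preservesFiniteLimits Λ U.ι
  haveI : J.IsLeftAdjoint := (EtSix.pullPushModAdj Λ U.ι).isLeftAdjoint
  have hPc : ∀ j, EtModW.IsConstructible Λ (P.homology j) := fun j =>
    IsConstructible.ofIso (h₁ j ≪≫ (isoOfQuasiIsoAt p j).symm) (hK j)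
  have hEc : ∀ j, EtModW.IsConstructible Λ (E'.homology j) := fun j =>
    IsConstructible.ofIso (h₂ j ≪≫ (isoOfQuasiIsoAt q j).symm) (hE j)
  have key := isConstructible_homology_tens (X := U.toScheme)
    (P := (J.mapHomologicalComplex (ComplexShape.up ℤ)).obj P)
    (E := (J.mapHomologicalComplex (ComplexShape.up ℤ)).obj E')
    (a := a) (c := b) (fun j hj => J.map_isZero (hPz j hj))
    (KFlat.rflat_of_bounded_above (EtModD.tensorBi Λ U.toScheme) preservesColimits_nat a
      (fun j hj => J.map_isZero (hPz j hj)) fun j => flatObj_of_stalks ((hPf j).pull U.ι))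
    (fun j hj => J.map_isZero (hEz j hj))
    (fun j => IsConstructible.ofIso (((P.sc j).mapHomologyIso J).symm) (isConstructible_pull U.ι (hPc j)))
    (fun j => IsConstructible.ofIso (((E'.sc j).mapHomologyIso J).symm) (isConstructible_pull U.ι (hEc j))) i
  exact IsConstructible.ofIso
    (HomologicalComplex.homologyMapIso (pullTensCx U.ι P E') i ≪≫
      ((((EtModD.tensorCx Λ X).obj P).obj E').sc i).mapHomologyIso J) key

end Groth.Agent.EtConsShriek
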