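import Groth.Agent.EtConsShriek.RHomExist
import Groth.Agent.EtConsShriek.TensorLocal
import Groth.Agent.KFlat.Exact
import Mathlib.Algebra.Homology.DerivedCategory.ShortExact
import Mathlib.Algebra.Homology.Embedding.CochainComplex

/-!
Vanishing of the cohomology sheaves of `RHom_Λ(F, K)` through maps out of tensor products with flat sheaves, and
dévissage in `F`.
-/

set_option autoImplicit false
set_option backward.isDefEq.respectTransparency false
set_option backward.isDefEq.respectTransparency.types false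
set_option linter.style.haveILetI false
set_option linter.unusedSectionVars false

universe u w v

open CategoryTheory CategoryTheory.Limits AlgebraicGeometry MonoidalCategory HomologicalComplex Pretriangulated

attribute [local instance] HasDerivedCategory.standard preservesBinaryBiproducts_of_preservesBinaryCoproducts

noncomputable section

namespace Groth.Agent.EtConsShriek

section Criterion

variable {C : Type w} [Category.{v} C] [Abelian C] [IsGrothendieckAbelian.{v} C]

/-- a cohomology object vanishes iff maps out of single objects die after an epimorphism -/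
theorem isZero_homology_iff_killed (𝒢 : C → Prop) (hcov : ∀ M : C, ∃ (G : C) (p : G ⟶ M), Epi p ∧ 𝒢 G)
    (R : DerivedCategory C) (i : ℤ) :
    IsZero ((DerivedCategory.homologyFunctor C i).obj R) ↔
      ∀ G : C, 𝒢 G → ∀ x : DerivedCategory.Q.obj ((single C (ComplexShape.up ℤ) i).obj G) ⟶ R,
        ∃ (G' : C) (p : G' ⟶ G), Epi p ∧ 𝒢 G' ∧
          DerivedCategory.Q.map ((single C (ComplexShape.up ℤ) i).map p) ≫ x = 0 := by
  obtain ⟨I, f, hI, hf, -, -⟩ := KInj.exists_kInjective ((DerivedCategory.Q (C := C)).objPreimage R)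
  haveI := hf
  haveI := hI
  let e : DerivedCategory.Q.obj I ≅ R :=
    (asIso (DerivedCategory.Q.map f)).symm ≪≫ DerivedCategory.Q.objObjPreimageIso R
  have h0 : IsZero ((DerivedCategory.homologyFunctor C i).obj R) ↔ I.ExactAt i := by
    let e' : (DerivedCategory.homologyFunctor C i).obj R ≅ I.homology i :=
      (DerivedCategory.homologyFunctor C i).mapIso e.symm ≪≫ (DerivedCategory.homologyFunctorFactors C i).app I
    rw [HomologicalComplex.exactAt_iff_isZero_homology]
    exact ⟨fun h => h.of_iso e'.symm, fun h => h.of_iso e'⟩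
  have hrel : (ComplexShape.up ℤ).Rel (i - 1) i := by simp
  rw [h0]
  constructor
  · intro hex G hG x
    obtain ⟨g, hg⟩ := KInj.Q_map_surjective (x ≫ e.inv)
    let φ : G ⟶ I.X i := (singleObjXSelf (ComplexShape.up ℤ) i G).inv ≫ g.f i
    have hφ : φ ≫ I.d i (i + 1) = 0 := by
      rw [Category.assoc, g.comm i (i + 1), single_obj_d, zero_comp, comp_zero]
    have hS := (I.exactAt_iff' (i - 1) i (i + 1) (by simp) (by simp)).1 hex
    obtain ⟨P, p₀, hp₀, t, ht⟩ := hS.exact_up_to_refinements φ hφ
    haveI := hp₀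
    obtain ⟨G', q, hq, hG'⟩ := hcov P
    haveI := hq
    refine ⟨G', q ≫ p₀, epi_comp q p₀, hG', ?_⟩
    refine (cancel_mono e.inv).1 ?_
    rw [Category.assoc, ← hg, zero_comp, ← Functor.map_comp, ← Functor.map_zero DerivedCategory.Q]
    refine DerivedCategory.Q_map_eq_of_homotopy _ ?_
    let hom : ∀ a b : ℤ, ((single C (ComplexShape.up ℤ) i).obj G').X a ⟶ I.X b := fun a b =>
      if h : a = i ∧ b = i - 1 then
        (singleObjXIsoOfEq (ComplexShape.up ℤ) i G' a h.1).hom ≫ (q ≫ t) ≫ eqToHom (congrArg I.X h.2.symm)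
      else 0
    refine (Homotopy.ofEq ?_).trans (Homotopy.nullHomotopy hom fun a b hab => dif_neg fun h => hab (by
      rw [h.1, h.2]; exact hrel))
    refine from_single_hom_ext ?_
    rw [Homotopy.nullHomotopicMap_f hrel (show (ComplexShape.up ℤ).Rel i (i + 1) from rfl) hom, single_obj_d,
      zero_comp, zero_add]
    have hh : hom i (i - 1) = (singleObjXSelf (ComplexShape.up ℤ) i G').hom ≫ q ≫ t := by
      rw [show hom i (i - 1) = _ from dif_pos ⟨rfl, rfl⟩, eqToHom_refl, Category.comp_id]
      rfl
    rw [hh, Category.assoc, Category.assoc, HomologicalComplex.comp_f, single_map_f_self, Category.assoc,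
      Category.assoc, Category.assoc]
    exact congrArg (_ ≫ ·) (congrArg (q ≫ ·) ht)
  · intro h
    rw [I.exactAt_iff' (i - 1) i (i + 1) (by simp) (by simp), ShortComplex.exact_iff_exact_up_to_refinements]
    intro A a ha
    obtain ⟨G, π, hπ, hG⟩ := hcov A
    haveI := hπ
    let g : (single C (ComplexShape.up ℤ) i).obj G ⟶ I :=
      HomologicalComplex.mkHomFromSingle (π ≫ a) (fun b hb => by
        obtain rfl : i + 1 = b := hb
        exact (Category.assoc _ _ _).trans ((congrArg (π ≫ ·) ha).trans comp_zero))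
    obtain ⟨G', p, hp, -, hx⟩ := h G hG (DerivedCategory.Q.map g ≫ e.hom)
    haveI := hp
    rw [← Category.assoc, ← Functor.map_comp] at hx
    have hx' : DerivedCategory.Q.map ((single C (ComplexShape.up ℤ) i).map p ≫ g) = DerivedCategory.Q.map 0 :=
      ((cancel_mono e.hom).1 (hx.trans zero_comp.symm)).trans (Functor.map_zero _ _ _).symm
    obtain ⟨H'⟩ := KInj.nonempty_homotopy_of_Q_map_eq hx'
    let H : Homotopy ((single C (ComplexShape.up ℤ) i).map p ≫ g) 0 := (Homotopy.ofEq (sub_zero _).symm).trans H'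
    refine ⟨G', p ≫ π, epi_comp p π, (singleObjXSelf (ComplexShape.up ℤ) i G').inv ≫ H.hom i (i - 1), ?_⟩
    have hc := H.comm i
    rw [HomologicalComplex.zero_f, add_zero, dNext_eq H.hom (show (ComplexShape.up ℤ).Rel i (i + 1) from rfl),
      single_obj_d, zero_comp, zero_add, prevD_eq H.hom hrel, HomologicalComplex.comp_f, single_map_f_self] at hc
    dsimp [g] at hc
    rw [mkHomFromSingle_f, Category.assoc, Category.assoc] at hc
    simp only [Iso.inv_hom_id_assoc] at hc
    show (p ≫ π) ≫ a = ((singleObjXSelf (ComplexShape.up ℤ) i G').inv ≫ H.hom i (i - 1)) ≫ I.d (i - 1) i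
    rw [Category.assoc, Category.assoc]
    exact (Iso.eq_inv_comp _).2 hc

end Criterion

variable {C : Type w} [Category.{v} C] [Abelian C] (B : C ⥤ C ⥤ C) [B.Additive] [∀ X, (B.obj X).Additive]
  [∀ K L : CochainComplex C ℤ, HomologicalComplex.HasMapBifunctor K L B (ComplexShape.up ℤ)]
  [∀ I : Type, HasColimitsOfShape (Discrete I) C] [∀ I : Type, HasExactColimitsOfShape (Discrete I) C]

section Generic

/-- a flat sheaf as a complex -/
abbrev sg (i : ℤ) : C ⥤ (CochainComplex C ℤ) := single _ (ComplexShape.up ℤ) i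

theorem rflat_sg {G : C} (hG : KFlat.FlatObj B G) (i : ℤ) : KFlat.RFlat B ((sg i).obj G) :=
  fun _ hL => KFlat.acyclic_tens_single B hL hG i

/-- every map out of `G[-i] ⊗ F` into `K` dies after an epimorphism onto the flat sheaf `G` -/
def Killed (K : DerivedCategory C) (F : (CochainComplex C ℤ)) (i : ℤ) : Prop :=
  ∀ G : C, KFlat.FlatObj B G →
    ∀ y : DerivedCategory.Q.obj (((KFlat.tens B).obj ((sg i).obj G)).obj F) ⟶ K,
      ∃ (G' : C) (p : G' ⟶ G), Epi p ∧ KFlat.FlatObj B G' ∧
        DerivedCategory.Q.map (((KFlat.tens B).map ((sg i).map p)).app F) ≫ y = 0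

variable {B}

/-- vanishing of the cohomology of a value of a right adjoint of a derived tensor product -/
theorem isZero_homology_rightAdjoint_iff [IsGrothendieckAbelian.{v} C]
    (hcov : ∀ M : C, ∃ (G : C) (p : G ⟶ M), Epi p ∧ KFlat.FlatObj B G)
    (F : CochainComplex C ℤ) {L R : DerivedCategory C ⥤ DerivedCategory C} (adj : L ⊣ R)
    (c : DerivedCategory.Q ⋙ L ⟶ (KFlat.tens B).flip.obj F ⋙ DerivedCategory.Q) (i : ℤ)
    (hc : ∀ G : C, KFlat.FlatObj B G → IsIso (c.app ((sg i).obj G)))
    (K : DerivedCategory C) :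
    IsZero ((DerivedCategory.homologyFunctor C i).obj (R.obj K)) ↔ Killed B K F i := by
  haveI := adj.isLeftAdjoint
  haveI := adj.isRightAdjoint
  refine (isZero_homology_iff_killed (KFlat.FlatObj B) hcov _ i).trans ⟨fun h G hG y => ?_, fun h G hG x => ?_⟩
  · obtain ⟨G', p, hp, hG', hx⟩ := h G hG (adj.homEquiv _ K (c.app ((sg i).obj G) ≫ y))
    refine ⟨G', p, hp, hG', ?_⟩
    haveI := hc G' hG'
    rw [← adj.homEquiv_naturality_left] at hx
    have hz : adj.homEquiv (DerivedCategory.Q.obj ((sg i).obj G')) K 0 = 0 := by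
      rw [adj.homEquiv_unit, R.map_zero, comp_zero]
    have hx' := (adj.homEquiv _ K).injective (hx.trans hz.symm)
    refine (cancel_epi (c.app ((sg i).obj G'))).1 ?_
    rw [comp_zero, ← hx']
    exact ((c.naturality_assoc ((sg i).map p)) y).symm
  · haveI := hc G hG
    obtain ⟨G', p, hp, hG', hy⟩ := h G hG (inv (c.app ((sg i).obj G)) ≫ (adj.homEquiv _ K).symm x)
    refine ⟨G', p, hp, hG', (adj.homEquiv _ K).symm.injective ?_⟩
    rw [adj.homEquiv_naturality_left_symm, adj.homEquiv_counit _ _ 0, L.map_zero, zero_comp]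
    have h2 : L.map (DerivedCategory.Q.map ((sg i).map p)) = c.app ((sg i).obj G') ≫
        DerivedCategory.Q.map (((KFlat.tens B).map ((sg i).map p)).app F) ≫ inv (c.app ((sg i).obj G)) := by
      rw [← Category.assoc, IsIso.eq_comp_inv]
      exact c.naturality ((sg i).map p)
    rw [h2, Category.assoc, Category.assoc, hy, comp_zero]

variable (e : B ≅ B.flip)
include e

/-- invariance under quasi-isomorphisms -/
theorem killed_iff_of_quasiIso (K : DerivedCategory C) {F F' : (CochainComplex C ℤ)} (f : F ⟶ F') [QuasiIso f] (i : ℤ) :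
    Killed B K F i ↔ Killed B K F' i := by
  have hq : ∀ G : C, KFlat.FlatObj B G →
      IsIso (DerivedCategory.Q.map (((KFlat.tens B).obj ((sg i).obj G)).map f)) := fun G hG => by
    have := KFlat.quasiIso_obj_map_of_acyclic (B := B) ((sg i).obj G) f
      (KFlat.acyclic_of_iso (KFlat.swapIso e _ _) (rflat_sg B hG i _ (KFlat.mappingCone_acyclic f)))
    infer_instance
  have sq : ∀ {G' G : C} (p : G' ⟶ G),
      DerivedCategory.Q.map (((KFlat.tens B).map ((sg i).map p)).app F) ≫
          DerivedCategory.Q.map (((KFlat.tens B).obj ((sg i).obj G)).map f) =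
        DerivedCategory.Q.map (((KFlat.tens B).obj ((sg i).obj G')).map f) ≫
          DerivedCategory.Q.map (((KFlat.tens B).map ((sg i).map p)).app F') := fun p => by
    rw [← Functor.map_comp, ← Functor.map_comp]
    exact congrArg DerivedCategory.Q.map (((KFlat.tens B).map ((sg i).map p)).naturality f).symm
  constructor
  · intro h G hG y
    obtain ⟨G', p, hp, hG', hy⟩ := h G hG (DerivedCategory.Q.map (((KFlat.tens B).obj ((sg i).obj G)).map f) ≫ y)
    refine ⟨G', p, hp, hG', ?_⟩
    rw [← Category.assoc, sq, Category.assoc] at hy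
    haveI := hq G' hG'
    exact (cancel_epi (DerivedCategory.Q.map (((KFlat.tens B).obj ((sg i).obj G')).map f))).1 (hy.trans comp_zero.symm)
  · intro h G hG y
    haveI := hq G hG
    obtain ⟨G', p, hp, hG', hy⟩ := h G hG (inv (DerivedCategory.Q.map (((KFlat.tens B).obj ((sg i).obj G)).map f)) ≫ y)
    refine ⟨G', p, hp, hG', ?_⟩
    have := congrArg (DerivedCategory.Q.map (((KFlat.tens B).obj ((sg i).obj G')).map f) ≫ ·) hy
    rw [← Category.assoc, ← sq, Category.assoc, IsIso.hom_inv_id_assoc, comp_zero] at this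
    exact this

theorem shortExact_sg_tens {G : C} (hG : KFlat.FlatObj B G) (i : ℤ) {S : ShortComplex (CochainComplex C ℤ)}
    (hS : S.ShortExact) : (S.map ((KFlat.tens B).obj ((sg i).obj G))).ShortExact := by
  refine KFlat.shortExact_tens_obj (B := B) ((sg i).obj G) S fun p q => ?_
  have hX : KFlat.FlatObj B (((sg i).obj G).X p) := by
    by_cases h : p = i
    · exact KFlat.flatObj_of_iso (singleObjXIsoOfEq (ComplexShape.up ℤ) i G p h).symm hG
    · intro T hT
      have hz : IsZero ((B).flip.obj (((sg i).obj G).X p)) :=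
        Functor.map_isZero _ (isZero_single_obj_X (ComplexShape.up ℤ) i G p h)
      exact ShortComplex.exact_of_isZero_X₂ _ (hz.obj _)
  have h' := KFlat.shortExact_obj_of_flatObj e hX _ (hS.map_of_exact (eval _ (ComplexShape.up ℤ) q))
  exact h'

/-- dévissage along short exact sequences of complexes -/
theorem killed_of_shortExact (K : DerivedCategory C) {S : ShortComplex (CochainComplex C ℤ)} (hS : S.ShortExact) (i : ℤ)
    (h₁ : Killed B K S.X₁ i) (h₃ : Killed B K S.X₃ i) : Killed B K S.X₂ i := by
  intro G hG y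
  let T := KFlat.tens B
  obtain ⟨G', p, hp, hG', hy⟩ := h₁ G hG (DerivedCategory.Q.map ((T.obj ((sg i).obj G)).map S.f) ≫ y)
  let y' := DerivedCategory.Q.map ((T.map ((sg i).map p)).app S.X₂) ≫ y
  have hf : DerivedCategory.Q.map ((T.obj ((sg i).obj G')).map S.f) ≫ y' = 0 := by
    rw [← hy]
    simp only [y']
    rw [← Category.assoc, ← Category.assoc, ← Functor.map_comp, ← Functor.map_comp]
    exact congrArg (fun t => DerivedCategory.Q.map t ≫ y) ((T.map ((sg i).map p)).naturality S.f)
  obtain ⟨z, hz⟩ := Triangle.yoneda_exact₂ _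
    (DerivedCategory.triangleOfSES_distinguished (shortExact_sg_tens e hG' i hS)) y' hf
  obtain ⟨G'', p', hp', hG'', hz'⟩ := h₃ G' hG' z
  haveI := hp
  haveI := hp'
  refine ⟨G'', p' ≫ p, epi_comp p' p, hG'', ?_⟩
  rw [Functor.map_comp, T.map_comp, NatTrans.comp_app, Functor.map_comp, Category.assoc]
  change _ ≫ y' = 0
  rw [hz]
  change DerivedCategory.Q.map _ ≫ DerivedCategory.Q.map ((T.obj ((sg i).obj G')).map S.g) ≫ z = 0
  rw [← Functor.map_comp_assoc, ← (T.map ((sg i).map p')).naturality S.g, Functor.map_comp_assoc, hz', comp_zero]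

/-- the degree `n` form for a single sheaf -/
def KilledSingle (K : DerivedCategory C) (H : C) (n : ℤ) : Prop :=
  ∀ G : C, KFlat.FlatObj B G → ∀ y : DerivedCategory.Q.obj ((sg n).obj ((B.obj G).obj H)) ⟶ K,
    ∃ (G' : C) (p : G' ⟶ G), Epi p ∧ KFlat.FlatObj B G' ∧
      DerivedCategory.Q.map ((sg n).map ((B.map p).app H)) ≫ y = 0

omit e in
theorem isIso_zz {M N : C} (hM : IsZero M) (hN : IsZero N) (f : M ⟶ N) : IsIso f :=
  ⟨0, hM.eq_of_src _ _, hN.eq_of_src _ _⟩

/-- `G[-i] ⊗ H[-a]` is `(G ⊗ H)[-(i+a)]` -/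
def tensSgHom (G H : C) (i a : ℤ) :
    ((KFlat.tens B).obj ((sg i).obj G)).obj ((sg a).obj H) ⟶ (sg (i + a)).obj ((B.obj G).obj H) :=
  HomologicalComplex.mkHomToSingle
    ((KFlat.singleXIso B ((sg i).obj G) H a i (i + a) rfl).inv ≫
      (B.map (singleObjXSelf (ComplexShape.up ℤ) i G).hom).app H)
    (fun b hb => IsZero.eq_of_src (by
      have hb' : b + 1 = i + a := hb
      refine (Functor.map_isZero ((B).flip.obj H)
        (isZero_single_obj_X (ComplexShape.up ℤ) i G (i - 1) (by omega))).of_iso ?_
      exact (KFlat.singleXIso B ((sg i).obj G) H a (i - 1) b (by omega)).symm) _ _)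

instance isIso_tensSgHom (G H : C) (i a : ℤ) : IsIso (tensSgHom (B := B) G H i a) := by
  haveI : ∀ n, IsIso ((tensSgHom (B := B) G H i a).f n) := fun n => by
    by_cases h : n = i + a
    · subst h
      rw [tensSgHom, mkHomToSingle_f]
      infer_instance
    · refine isIso_zz ?_ (isZero_single_obj_X (ComplexShape.up ℤ) (i + a) _ n h) _
      exact (Functor.map_isZero ((B).flip.obj H)
        (isZero_single_obj_X (ComplexShape.up ℤ) i G (n - a) (by omega))).of_iso
          (KFlat.singleXIso B ((sg i).obj G) H a (n - a) n (by omega)).symm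
  exact HomologicalComplex.Hom.isIso_of_components _

theorem tensSgHom_natural {G G' : C} (p : G' ⟶ G) (H : C) (i a : ℤ) :
    ((KFlat.tens B).map ((sg i).map p)).app ((sg a).obj H) ≫ tensSgHom (B := B) G H i a =
      tensSgHom (B := B) G' H i a ≫ (sg (i + a)).map ((B.map p).app H) := by
  refine to_single_hom_ext ?_
  rw [HomologicalComplex.comp_f, HomologicalComplex.comp_f, tensSgHom, tensSgHom, mkHomToSingle_f, mkHomToSingle_f,
    single_map_f_self]
  refine (cancel_epi (KFlat.singleXIso B ((sg i).obj G') H a i (i + a) rfl).hom).1 ?_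
  have key : (KFlat.singleXIso B ((sg i).obj G') H a i (i + a) rfl).hom ≫
      (((KFlat.tens B).map ((sg i).map p)).app ((sg a).obj H)).f (i + a) =
      (B.map (((sg i).map p).f i)).app H ≫ (KFlat.singleXIso B ((sg i).obj G) H a i (i + a) rfl).hom := by
    refine (Category.assoc _ _ _).trans ?_
    erw [ι_mapBifunctorMap]
    rw [HomologicalComplex.id_f, CategoryTheory.Functor.map_id]
    erw [Category.id_comp]
    exact NatTrans.naturality_assoc (B.map (((sg i).map p).f i))
      (singleObjXSelf (ComplexShape.up ℤ) a H).inv _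
  rw [← Category.assoc, key]
  simp only [Category.assoc, Iso.inv_hom_id_assoc, Iso.hom_inv_id_assoc]
  rw [← NatTrans.comp_app_assoc, ← Functor.map_comp, single_map_f_self, Category.assoc, Category.assoc,
    Iso.inv_hom_id, Category.comp_id, Functor.map_comp, NatTrans.comp_app_assoc]

theorem killed_single_iff (K : DerivedCategory C) (H : C) (i a : ℤ) :
    Killed B K ((sg a).obj H) i ↔ KilledSingle (B := B) K H (i + a) := by
  have sq : ∀ {G' G : C} (p : G' ⟶ G),
      DerivedCategory.Q.map (((KFlat.tens B).map ((sg i).map p)).app ((sg a).obj H)) ≫ DerivedCategory.Q.map (tensSgHom (B := B) G H i a) =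
        DerivedCategory.Q.map (tensSgHom (B := B) G' H i a) ≫ DerivedCategory.Q.map ((sg (i + a)).map ((B.map p).app H)) := fun p => by
    rw [← Functor.map_comp, ← Functor.map_comp, tensSgHom_natural e]
  constructor
  · intro h G hG y
    obtain ⟨G', p, hp, hG', hy⟩ := h G hG (DerivedCategory.Q.map (tensSgHom (B := B) G H i a) ≫ y)
    rw [← Category.assoc, sq, Category.assoc] at hy
    exact ⟨G', p, hp, hG', (cancel_epi (DerivedCategory.Q.map (tensSgHom (B := B) G' H i a))).1 (hy.trans comp_zero.symm)⟩
  · intro h G hG y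
    obtain ⟨G', p, hp, hG', hy⟩ := h G hG (inv (DerivedCategory.Q.map (tensSgHom (B := B) G H i a)) ≫ y)
    refine ⟨G', p, hp, hG', ?_⟩
    have := congrArg (DerivedCategory.Q.map (tensSgHom (B := B) G' H i a) ≫ ·) hy
    rw [← Category.assoc, ← sq, Category.assoc, IsIso.hom_inv_id_assoc, comp_zero] at this
    exact this

theorem killedSingle_of_iso (K : DerivedCategory C) {H H' : C} (e : H ≅ H') (n : ℤ)
    (h : KilledSingle (B := B) K H n) : KilledSingle (B := B) K H' n := by
  intro G hG y
  obtain ⟨G', p, hp, hG', hy⟩ := h G hG (DerivedCategory.Q.map ((sg n).map ((B.obj G).map e.hom)) ≫ y)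
  refine ⟨G', p, hp, hG', ?_⟩
  rw [← Functor.map_comp_assoc, ← Functor.map_comp, ← (B.map p).naturality, Functor.map_comp,
    Functor.map_comp_assoc] at hy
  exact (cancel_epi (DerivedCategory.Q.map ((sg n).map ((B.obj G').map e.hom)))).1 (hy.trans comp_zero.symm)

/-- cohomology in a single degree -/
theorem killed_of_concentrated (K : DerivedCategory C) (i a : ℤ) (F : (CochainComplex C ℤ)) (hge : F.IsGE a) (hle : F.IsLE a)
    (h : KilledSingle (B := B) K (F.homology a) (i + a)) : Killed B K F i := by
  haveI := hge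
  haveI := hle
  haveI : (F.truncGE a).IsLE a := by
    rw [CochainComplex.isLE_iff]
    intro n hn
    rw [exactAt_iff_isZero_homology]
    haveI : IsIso (homologyMap (F.πTruncGE a) n) := inferInstance
    exact ((exactAt_iff_isZero_homology _ _).1 (F.exactAt_of_isLE a n hn)).of_iso
      (asIso (homologyMap (F.πTruncGE a) n)).symm
  let T := (F.truncGE a).truncLE a
  haveI : T.IsStrictlyLE a := inferInstance
  haveI : T.IsStrictlyGE a := inferInstance
  obtain ⟨M, ⟨eT⟩⟩ := T.exists_iso_single a
  rw [killed_iff_of_quasiIso e K (F.πTruncGE a), ← killed_iff_of_quasiIso e K ((F.truncGE a).ιTruncLE a),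
    killed_iff_of_quasiIso e K eT.hom, killed_single_iff e]
  have eM : F.homology a ≅ M :=
    asIso (homologyMap (F.πTruncGE a) a) ≪≫ (asIso (homologyMap ((F.truncGE a).ιTruncLE a) a)).symm ≪≫
      (HomologicalComplex.homologyFunctor _ _ a).mapIso eT ≪≫ singleObjHomologySelfIso (ComplexShape.up ℤ) a M
  exact killedSingle_of_iso e K eM _ h

/-- induction over the cohomology degrees of a bounded complex -/
theorem killed_of_bounded (K : DerivedCategory C) (i : ℤ) :
    ∀ (d : ℕ) (a : ℤ) (F : (CochainComplex C ℤ)), F.IsGE a → F.IsLE (a + d) →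
      (∀ n, a ≤ n → n ≤ a + d → KilledSingle (B := B) K (F.homology n) (i + n)) → Killed B K F i := by
  intro d
  induction d with
  | zero =>
    intro a F hge hle h
    exact killed_of_concentrated e K i a F hge (by simpa using hle) (h a le_rfl (by simp))
  | succ d ih =>
    intro a F hge hle h
    haveI := hge
    haveI := hle
    refine killed_of_shortExact e K (F.shortComplexTruncLE_shortExact a) i ?_ ?_
    · haveI : QuasiIso (F.πTruncGE a) := inferInstance
      refine killed_of_concentrated e K i a (F.truncLE a) ?_ inferInstance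
        (killedSingle_of_iso e K ?_ _ (h a le_rfl (by omega)))
      · rw [CochainComplex.isGE_iff]
        intro n hn
        rw [exactAt_iff_isZero_homology]
        haveI : IsIso (homologyMap (F.ιTruncLE a) n) := (quasiIsoAt_iff_isIso_homologyMap _ _).1
          (CochainComplex.quasiIsoAt_ιTruncLE F a n (show n ≤ a by omega))
        exact ((exactAt_iff_isZero_homology _ _).1 (F.exactAt_of_isGE a n hn)).of_iso
          (asIso (homologyMap (F.ιTruncLE a) n))
      · haveI : IsIso (homologyMap (F.ιTruncLE a) a) := (quasiIsoAt_iff_isIso_homologyMap _ _).1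
          (CochainComplex.quasiIsoAt_ιTruncLE F a a le_rfl)
        exact (asIso (homologyMap (F.ιTruncLE a) a)).symm
    · haveI : QuasiIso (F.shortComplexTruncLEX₃ToTruncGE a (a + 1) rfl) := inferInstance
      rw [killed_iff_of_quasiIso e K (F.shortComplexTruncLEX₃ToTruncGE a (a + 1) rfl)]
      have hiso : ∀ n, a + 1 ≤ n → IsIso (homologyMap (F.πTruncGE (a + 1)) n) := fun n hn =>
        (quasiIsoAt_iff_isIso_homologyMap _ _).1 (CochainComplex.quasiIsoAt_πTruncGE F (a + 1) n hn)
      refine ih (a + 1) (F.truncGE (a + 1)) inferInstance ?_ fun n h1 h2 => ?_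
      · rw [CochainComplex.isLE_iff]
        intro n hn
        rw [exactAt_iff_isZero_homology]
        haveI := hiso n (by omega)
        exact ((exactAt_iff_isZero_homology _ _).1
          (F.exactAt_of_isLE (a + (d + 1 : ℕ)) n (by push_cast; omega))).of_iso
          (asIso (homologyMap (F.πTruncGE (a + 1)) n)).symm
      · haveI := hiso n h1
        exact killedSingle_of_iso e K (asIso (homologyMap (F.πTruncGE (a + 1)) n)) _
          (h n (by omega) (by push_cast; omega))

end Generic

section Etale

variable {Λ : Type (u + 1)} [CommRing Λ] {X : Scheme.{u}}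

theorem exists_flat_epi (M : EtModW.Mod Λ X) :
    ∃ (G : EtModW.Mod Λ X) (p : G ⟶ M), Epi p ∧ KFlat.FlatObj (EtModD.tensorBi Λ X) G :=
  ⟨(coverF Λ X).obj M, (coverπ Λ X).app M, inferInstance, flatObj_coverF M⟩

/-- **vanishing of a cohomology sheaf of `RHom(F, K)`** -/
theorem isZero_HD_dual_iff (K : EtModD.D Λ X) (F : CochainComplex (EtModW.Mod Λ X) ℤ) [EtModD.HasLTensorCx F]
    [EtModD.HasRHom F] (i : ℤ) :
    IsZero (EtModD.HD (EtModD.dual K F) i) ↔ Killed (EtModD.tensorBi Λ X) K F i :=
  isZero_homology_rightAdjoint_iff exists_flat_epi F (EtModD.RHomAdj F) (ltCounit F) i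
    (fun _ hG => isIso_ltCounit_app F (rflat_sg (EtModD.tensorBi Λ X) hG i)) K

end Etale

end Groth.Agent.EtConsShriek

end
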