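import Groth.Agent.EtConsShriek.Flat
import Groth.Agent.EtConsShriek.Presentation
import Groth.Agent.EtTrivGen.ConsTensor
import Groth.Agent.KFlat.Functorial
import Groth.Agent.KFlat.Bounded
import Groth.Agent.KFlat.Acyclic
import Groth.Agent.KFlat.LeftDerived

/-!
The derived tensor product of bounded above objects with constructible cohomology.
-/

set_option autoImplicit false
set_option backward.isDefEq.respectTransparency false
set_option backward.isDefEq.respectTransparency.types false
set_option linter.style.haveILetI false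
set_option linter.unusedSectionVars false

universe u

open CategoryTheory CategoryTheory.Limits AlgebraicGeometry MonoidalCategory

attribute [local instance] HasDerivedCategory.standard CategoryTheory.Abelian.hasFiniteBiproducts

noncomputable section

namespace Groth.Agent.EtConsShriek

variable {Λ : Type (u + 1)} [CommRing Λ] {X : Scheme.{u}}

variable (Λ X) in
/-- symmetry of the tensor product -/
def braid : EtModD.tensorBi Λ X ≅ (EtModD.tensorBi Λ X).flip :=
  NatIso.ofComponents
    (fun F => NatIso.ofComponents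
      (fun G => (presheafToSheaf X.smallEtaleTopology (ModuleCat.{u + 1} Λ)).mapIso (β_ F.obj G.obj))
      (fun {G G'} g => by
        refine ((presheafToSheaf X.smallEtaleTopology (ModuleCat.{u + 1} Λ)).map_comp _ _).symm.trans
          (Eq.trans ?_ ((presheafToSheaf X.smallEtaleTopology (ModuleCat.{u + 1} Λ)).map_comp _ _))
        exact congrArg _ (BraidedCategory.braiding_naturality_right _ _)))
    (fun {F F'} f => by
      ext G : 2
      refine ((presheafToSheaf X.smallEtaleTopology (ModuleCat.{u + 1} Λ)).map_comp _ _).symm.trans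
        (Eq.trans ?_ ((presheafToSheaf X.smallEtaleTopology (ModuleCat.{u + 1} Λ)).map_comp _ _))
      exact congrArg _ (BraidedCategory.braiding_naturality_left _ _))

instance hasExactColimits_nat : HasExactColimitsOfShape ℕ (EtModW.Mod Λ X) :=
  HasExactColimitsOfShape.of_domain_equivalence (C := EtModW.Mod Λ X) (AsSmall.equiv (C := ℕ) : ℕ ≌ AsSmall.{u + 1} ℕ).symm

instance hasExactColimits_discrete (I : Type) : HasExactColimitsOfShape (Discrete I) (EtModW.Mod Λ X) :=
  HasExactColimitsOfShape.of_domain_equivalence (C := EtModW.Mod Λ X)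
    (Discrete.equivalence Equiv.ulift.{u + 1})

/-- tensor products commute with colimits -/
theorem preservesColimitsOfShape_tensor (F : EtModW.Mod Λ X) (J : Type) [SmallCategory J]
    [HasColimitsOfShape J (EtModW.Mod Λ X)] :
    PreservesColimitsOfShape J ((EtModD.tensorBi Λ X).obj F) := by
  let T := (EtModD.tensorBi Λ X).obj F
  refine ⟨fun {D} => ?_⟩
  haveI : IsIso (colimit.post D T) := by
    refine EtTrivGen.isIso_of_stalk _ fun Ω _ _ ξ => ?_
    let S := EtModW.stalk Λ ξ
    haveI := stalk_preservesColimits (Λ := Λ) ξ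
    haveI : PreservesColimitsOfSize.{0, 0} S := preservesSmallestColimits_of_preservesColimits _
    let e : T ⋙ S ≅ S ⋙ tensorRight ((EtModW.stalk Λ ξ).obj F) :=
      Functor.isoWhiskerRight ((braid Λ X).app F) S ≪≫ stTensorIso ξ F
    haveI : PreservesColimitsOfShape J (S ⋙ tensorRight ((EtModW.stalk Λ ξ).obj F)) := inferInstance
    haveI : PreservesColimitsOfShape J (T ⋙ S) := preservesColimitsOfShape_of_natIso e.symm
    haveI : IsIso (colimit.post (D ⋙ T) S ≫ S.map (colimit.post D T)) := by
      rw [colimit.post_post D T S]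
      infer_instance
    exact IsIso.of_isIso_comp_left (colimit.post (D ⋙ T) S) _
  exact preservesColimit_of_isIso_post T D

theorem preservesColimits_nat (F : EtModW.Mod Λ X) : PreservesColimitsOfShape ℕ ((EtModD.tensorBi Λ X).obj F) :=
  preservesColimitsOfShape_tensor F ℕ

theorem preservesColimits_int (F : EtModW.Mod Λ X) :
    PreservesColimitsOfShape (Discrete ℤ) ((EtModD.tensorBi Λ X).obj F) :=
  preservesColimitsOfShape_tensor F (Discrete ℤ)

/-- K-flat resolutions -/
theorem resF_spec (G : CochainComplex (EtModW.Mod Λ X) ℤ) :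
    KFlat.RFlat (EtModD.tensorBi Λ X) ((KFlat.resFunctor (coverF Λ X) (coverπ Λ X)).obj G) ∧
      QuasiIso ((KFlat.resNat (coverF Λ X) (coverπ Λ X)).app G) := by
  have h := KFlat.resFunctor_spec (coverF Λ X) (coverπ Λ X) (EtModD.tensorBi Λ X) flatObj_coverF
    preservesColimits_nat preservesColimits_int G
  exact ⟨h.1, h.2.2⟩

theorem exists_rflat (G : CochainComplex (EtModW.Mod Λ X) ℤ) :
    ∃ (G' : CochainComplex (EtModW.Mod Λ X) ℤ) (q : G' ⟶ G), KFlat.RFlat (EtModD.tensorBi Λ X) G' ∧ QuasiIso q :=
  ⟨_, _, resF_spec G⟩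

/-- the resolutions deriving `- ⊗ E` -/
def leftRes (E : CochainComplex (EtModW.Mod Λ X) ℤ) :
    KFlat.LeftRes (HomologicalComplex.quasiIso (EtModW.Mod Λ X) (ComplexShape.up ℤ)) (EtModD.tensorCxQ E)
      (KFlat.RFlat (EtModD.tensorBi Λ X)) where
  ρ := KFlat.resFunctor (coverF Λ X) (coverπ Λ X)
  ψ := KFlat.resNat (coverF Λ X) (coverπ Λ X)
  mem G := (resF_spec G).1
  weq G := (resF_spec G).2
  isIso_map {K L} α hK hL hα := by
    haveI : QuasiIso α := hα
    have := KFlat.quasiIso_map_app_of_acyclic (B := EtModD.tensorBi Λ X) α E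
      (KFlat.acyclic_of_iso (KFlat.swapIso (braid Λ X) E _)
        (KFlat.acyclic_tens_of_acyclic_rflat (braid Λ X) exists_rflat (KFlat.rflat_mappingCone α hK hL)
          (KFlat.mappingCone_acyclic α) E))
    exact inferInstanceAs (IsIso (DerivedCategory.Q.map (((EtModD.tensorCx Λ X).map α).app E)))

/-- the derived tensor product at a K-flat complex -/
theorem nonempty_ltIso (E : CochainComplex (EtModW.Mod Λ X) ℤ) [EtModD.HasLTensorCx E]
    {P : CochainComplex (EtModW.Mod Λ X) ℤ} (hP : KFlat.RFlat (EtModD.tensorBi Λ X) P) :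
    Nonempty ((EtModD.LTensorCx E).obj (DerivedCategory.Q.obj P) ≅
      DerivedCategory.Q.obj (((EtModD.tensorCx Λ X).obj P).obj E)) := by
  haveI := (leftRes E).isIso_app (EtModD.LTensorCx E)
    ((EtModD.tensorCxQ E).totalLeftDerivedCounit DerivedCategory.Q
      (HomologicalComplex.quasiIso (EtModW.Mod Λ X) (ComplexShape.up ℤ))) hP
  exact ⟨asIso (((EtModD.tensorCxQ E).totalLeftDerivedCounit DerivedCategory.Q
    (HomologicalComplex.quasiIso (EtModW.Mod Λ X) (ComplexShape.up ℤ))).app P)⟩

variable [IsNoetherianRing Λ] [CompactSpace X] [QuasiSeparatedSpace X]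

theorem IsFree.flatObj {F : EtModW.Mod Λ X} (h : IsFree F) : KFlat.FlatObj (EtModD.tensorBi Λ X) F := by
  obtain ⟨m, V, hV, ⟨e⟩⟩ := h
  refine KFlat.flatObj_of_iso e.symm (flatObj_of_stalks fun Ω _ _ ξ => ?_)
  haveI := (stalk_exact (Λ := Λ) ξ).1
  haveI := (stalk_exact (Λ := Λ) ξ).2
  haveI : ∀ k, Module.Flat Λ ((EtModW.stalk Λ ξ).obj (free Λ (V k)) : Type (u + 1)) := fun k => flat_stalk_free (V k) ξ
  haveI : (EtModW.stalk Λ ξ).Additive := Functor.additive_of_preserves_binary_products _
  haveI : PreservesBiproduct (fun k => free Λ (V k)) (EtModW.stalk Λ ξ) :=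
    (preservesBiproductsOfShape_of_preservesProductsOfShape (J := Fin m) (EtModW.stalk Λ ξ)).preserves
  let M : Fin m → Type (u + 1) := fun k => ((EtModW.stalk Λ ξ).obj (free Λ (V k)) : Type (u + 1))
  haveI : Module.Flat Λ (∀ k, M k) :=
    Module.Flat.of_linearEquiv (DirectSum.linearEquivFunOnFintype Λ (Fin m) M).symm
  let e' : ((EtModW.stalk Λ ξ).obj (⨁ fun k => free Λ (V k)) : Type (u + 1)) ≃ₗ[Λ] (∀ k, M k) :=
    ((EtModW.stalk Λ ξ).mapBiproduct (fun k => free Λ (V k)) ≪≫ ModuleCat.biproductIsoPi _).toLinearEquiv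
  exact Module.Flat.of_linearEquiv e'

variable (X) in
/-- constructible retracts -/
theorem isConstructible_retract {F G : EtModW.Mod Λ X} (i : F ⟶ G) (r : G ⟶ F) (h : i ≫ r = 𝟙 F)
    (hG : EtModW.IsConstructible Λ G) : EtModW.IsConstructible Λ F := by
  let p : G ⟶ G := 𝟙 G - r ≫ i
  have hi : i ≫ p = 0 := by simp [p, reassoc_of% h]
  haveI : IsSplitMono i := ⟨⟨⟨r, h⟩⟩⟩
  let e : F ≅ kernel p :=
    { hom := kernel.lift p i hi
      inv := kernel.ι p ≫ r
      hom_inv_id := by simp [h]
      inv_hom_id := by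
        rw [← cancel_mono (kernel.ι p)]
        have hk := kernel.condition p
        simp only [p, Preadditive.comp_sub, Category.comp_id, sub_eq_zero] at hk
        simpa using hk.symm }
  exact EtTrivGen.IsConstructible.ofIso e.symm (EtTrivGen.isConstructible_kernel_cokernel p hG hG).1

/-- terms of a tensor product of bounded above complexes of constructible sheaves -/
theorem isConstructible_tens_X {P E : CochainComplex (EtModW.Mod Λ X) ℤ} {a c : ℤ}
    (hP : ∀ i, a < i → IsZero (P.X i)) (hE : ∀ i, c < i → IsZero (E.X i))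
    (hPc : ∀ i, EtModW.IsConstructible Λ (P.X i)) (hEc : ∀ i, EtModW.IsConstructible Λ (E.X i)) (n : ℤ) :
    EtModW.IsConstructible Λ ((((EtModD.tensorCx Λ X).obj P).obj E).X n) ∧
      (a + c < n → IsZero ((((EtModD.tensorCx Λ X).obj P).obj E).X n)) := by
  classical
  have hz : ∀ p q : ℤ, (a < p ∨ c < q) → IsZero (((EtModD.tensorBi Λ X).obj (P.X p)).obj (E.X q)) := by
    rintro p q (h | h)
    · exact Functor.map_isZero ((EtModD.tensorBi Λ X).flip.obj (E.X q)) (hP p h)
    · exact Functor.map_isZero _ (hE q h)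
  refine ⟨?_, fun hn => ?_⟩
  · let s := (Finset.Icc (n - c) a).equivFin.symm
    let T : Fin (Finset.Icc (n - c) a).card → EtModW.Mod Λ X := fun k =>
      ((EtModD.tensorBi Λ X).obj (P.X (s k).1)).obj (E.X (n - (s k).1))
    let r : (⨁ T) ⟶ (((EtModD.tensorCx Λ X).obj P).obj E).X n :=
      biproduct.desc fun k => HomologicalComplex.ιMapBifunctor P E (EtModD.tensorBi Λ X) (ComplexShape.up ℤ)
        (s k).1 (n - (s k).1) n (by show (s k).1 + (n - (s k).1) = n; ring)
    let i : (((EtModD.tensorCx Λ X).obj P).obj E).X n ⟶ ⨁ T :=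
      HomologicalComplex.mapBifunctorDesc fun p q h =>
        if hp : p ∈ Finset.Icc (n - c) a then
          eqToHom (by
            have h' : p + q = n := h
            simp only [T, s, Equiv.apply_symm_apply]
            rw [show q = n - p by omega]) ≫ biproduct.ι T (s.symm ⟨p, hp⟩)
        else 0
    refine isConstructible_retract X i r ?_ ?_
    · refine HomologicalComplex.mapBifunctor.hom_ext fun p q h => ?_
      have h' : p + q = n := h
      obtain rfl : q = n - p := by omega
      rw [HomologicalComplex.ι_mapBifunctorDesc_assoc]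
      refine Eq.trans ?_ (Category.comp_id _).symm
      by_cases hp : p ∈ Finset.Icc (n - c) a
      · rw [dif_pos hp, Category.assoc, biproduct.ι_desc]
        have key : ∀ (p' : ℤ) (e : p' = p) (h₁ : _) (h₂ : _),
            eqToHom (congrArg (fun t => ((EtModD.tensorBi Λ X).obj (P.X t)).obj (E.X (n - t))) e.symm) ≫
              HomologicalComplex.ιMapBifunctor P E (EtModD.tensorBi Λ X) (ComplexShape.up ℤ) p' (n - p') n h₁ =
            HomologicalComplex.ιMapBifunctor P E (EtModD.tensorBi Λ X) (ComplexShape.up ℤ) p (n - p) n h₂ := by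
          rintro p' rfl h₁ h₂
          simp
        exact key _ (by simp [s]) _ _
      · refine (hz p (n - p) ?_).eq_of_src _ _
        simp only [Finset.mem_Icc, not_and_or, not_le] at hp
        omega
    · exact sum_mem (EtModW.IsConstructible Λ)
        (fun {Z} hZ => (IsFree.of_isZero hZ).isConstructible)
        (fun hT h₁ h₃ => EtTrivGen.isConstructible_middle hT h₁ h₃) _
        fun k => EtTrivGen.isConstructible_tensor (hPc _) (hEc _)
  · rw [IsZero.iff_id_eq_zero]
    refine HomologicalComplex.mapBifunctor.hom_ext fun p q h => ?_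
    have h' : p + q = n := h
    exact (hz p q (by omega)).eq_of_src _ _

omit [IsNoetherianRing Λ] [CompactSpace X] [QuasiSeparatedSpace X] in
/-- tensor products of bounded above complexes are bounded above -/
theorem isStrictlyLE_tens {P E : CochainComplex (EtModW.Mod Λ X) ℤ} {a c : ℤ}
    (hP : ∀ i, a < i → IsZero (P.X i)) (hE : ∀ i, c < i → IsZero (E.X i)) :
    (((EtModD.tensorCx Λ X).obj P).obj E).IsStrictlyLE (a + c) := by
  rw [CochainComplex.isStrictlyLE_iff]
  intro n hn
  rw [IsZero.iff_id_eq_zero]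
  refine HomologicalComplex.mapBifunctor.hom_ext fun p q h => ?_
  have h' : p + q = n := h
  have hor : a < p ∨ c < q := by omega
  obtain h | h := hor
  · exact (Functor.map_isZero ((EtModD.tensorBi Λ X).flip.obj (E.X q)) (hP p h)).eq_of_src _ _
  · exact (Functor.map_isZero ((EtModD.tensorBi Λ X).obj (P.X p)) (hE q h)).eq_of_src _ _

/-- tensor products of flat bounded above complexes with constructible cohomology, over a quasi-compact
quasi-separated scheme -/
theorem isConstructible_homology_tens {P E : CochainComplex (EtModW.Mod Λ X) ℤ} {a c : ℤ}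
    (hP : ∀ i, a < i → IsZero (P.X i)) (hPf : KFlat.RFlat (EtModD.tensorBi Λ X) P)
    (hE : ∀ i, c < i → IsZero (E.X i))
    (hPc : ∀ i, EtModW.IsConstructible Λ (P.homology i)) (hEc : ∀ i, EtModW.IsConstructible Λ (E.homology i))
    (n : ℤ) : EtModW.IsConstructible Λ ((((EtModD.tensorCx Λ X).obj P).obj E).homology n) := by
  have hz : ∀ {K : CochainComplex (EtModW.Mod Λ X) ℤ} {d : ℤ}, (∀ i, d < i → IsZero (K.X i)) →
      ∀ i, d < i → IsZero (K.homology i) := fun {K d} hK i hi =>
    (K.exactAt_iff_isZero_homology i).1 (by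
      rw [HomologicalComplex.exactAt_iff]
      exact ShortComplex.exact_of_isZero_X₂ _ (hK i hi))
  obtain ⟨P', p, hP', hP'f, hp⟩ := exists_resolution (data (Λ := Λ) (X := X)) P hPc a (hz hP)
  obtain ⟨E', q, hE', hE'f, hq⟩ := exists_resolution (data (Λ := Λ) (X := X)) E hEc c (hz hE)
  have hflat : KFlat.RFlat (EtModD.tensorBi Λ X) P' :=
    KFlat.rflat_of_bounded_above (EtModD.tensorBi Λ X) preservesColimits_nat a hP' fun n => (hP'f n).flatObj
  haveI hq1 : QuasiIso (((EtModD.tensorCx Λ X).obj P').map q) :=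
    KFlat.quasiIso_obj_map_of_acyclic (B := EtModD.tensorBi Λ X) P' q
      (hflat.acyclic_tens_left (braid Λ X) (KFlat.mappingCone_acyclic q))
  haveI hp1 : QuasiIso (((EtModD.tensorCx Λ X).map p).app E) :=
    KFlat.quasiIso_map_app_of_acyclic (B := EtModD.tensorBi Λ X) p E
      (KFlat.acyclic_of_iso (KFlat.swapIso (braid Λ X) E _)
        (KFlat.acyclic_tens_of_acyclic_rflat (braid Λ X) exists_rflat (KFlat.rflat_mappingCone p hflat hPf)
          (KFlat.mappingCone_acyclic p) E))
  exact EtTrivGen.IsConstructible.ofIso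
    (@isoOfQuasiIsoAt _ _ _ _ _ _ _ (((EtModD.tensorCx Λ X).obj P').map q) n _ _ ((quasiIso_iff _).1 hq1 n) ≪≫
      @isoOfQuasiIsoAt _ _ _ _ _ _ _ (((EtModD.tensorCx Λ X).map p).app E) n _ _ ((quasiIso_iff _).1 hp1 n))
    ((data (Λ := Λ) (X := X)).homology _
      (fun m => (isConstructible_tens_X hP' hE' (fun i => (hP'f i).isConstructible)
        (fun i => (hE'f i).isConstructible) m).1) n)

end Groth.Agent.EtConsShriek
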